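import Cfsg.Agent.Lib.Presented.Fi23Transpositions
import Cfsg.Agent.Lib.Presented.Fi22Mult.Main
import Cfsg.Agent.Lib.SchurCover.Perfect

/-!
The perfect double cover of the Fischer group on 22 letters is unique: it is the point stabiliser in
the Fischer group on 23 letters.
-/

set_option autoImplicit false
set_option maxRecDepth 8000

namespace CfsgLib.FischerTwoFour.Recog

open CfsgLib.Presented CfsgLib.SchurCover
open Fi23Transpositions (z)

theorem finite_fi22 : Finite Cfsg.Spor.Fi22 :=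
  Nat.finite_of_card_ne_zero (by rw [Fi22Order.card_eq]; norm_num)

theorem finite_stab : Finite Fi23Cosets.H :=
  Nat.finite_of_card_ne_zero (by rw [Fi23Order.card_H]; norm_num)

theorem commutator_stab : commutator Fi23Cosets.H = ⊤ := by
  refine eq_top_iff.2 fun g _ => ?_
  have h := DFunLike.congr_fun
    (Fi23Simple.killed (fun a b => mul_comm a b) (Abelianization.of (G := Fi23Cosets.H))) g
  exact (QuotientGroup.eq_one_iff _).1 h

theorem card_le_two_of_cyclic {M : Type*} [Group M] [Finite M] (hc : IsCyclic M) (h : ∀ m : M, m ^ 2 = 1) :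
    Nat.card M ≤ 2 := by
  refine Nat.le_of_dvd two_pos ?_
  rw [← IsCyclic.exponent_eq_card]
  exact Monoid.exponent_dvd_of_forall_pow_eq_one h

/-- A perfect group with a central subgroup of order two and quotient the Fischer group on 22 letters
is the point stabiliser in the Fischer group on 23 letters, compatibly with the quotient maps. -/
theorem exists_iso_stab {K : Type*} [Group K] [Finite K] {t : K} (ht : orderOf t = 2)
    [(Subgroup.zpowers t).Normal] (htc : t ∈ Subgroup.center K) (hperf : commutator K = ⊤)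
    (e : K ⧸ Subgroup.zpowers t ≃* Cfsg.Spor.Fi22) :
    ∃ f : Fi23Cosets.H ≃* K, ∀ g, e (QuotientGroup.mk' _ (f g)) = Fi23Simple.toFi22 g := by
  have := finite_fi22
  have := finite_stab
  let ξ : K →* Cfsg.Spor.Fi22 := e.toMonoidHom.comp (QuotientGroup.mk' (Subgroup.zpowers t))
  have hξ : Function.Surjective ξ := e.surjective.comp (QuotientGroup.mk'_surjective _)
  have hξker : ξ.ker = Subgroup.zpowers t := by
    ext x
    rw [MonoidHom.mem_ker, show ξ x = e (QuotientGroup.mk' _ x) from rfl, MulEquiv.map_eq_one_iff,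
      QuotientGroup.mk'_apply, QuotientGroup.eq_one_iff]
  have htz : Subgroup.zpowers t ≤ Subgroup.center K := Subgroup.zpowers_le.2 htc
  have hπ := Fi23Simple.toFi22_surjective
  let P := fibre Fi23Simple.toFi22 ξ
  let ρ : P →* Cfsg.Spor.Fi22 := Fi23Simple.toFi22.comp (fibreFst _ ξ)
  have hρ : Function.Surjective ρ := hπ.comp (fibreFst_surjective _ hξ)
  have hmem : ∀ x : P, x ∈ ρ.ker → x.1.1 ∈ Fi23Simple.toFi22.ker ∧ x.1.2 ∈ ξ.ker := fun x hx =>
    ⟨hx, (show Fi23Simple.toFi22 x.1.1 = ξ x.1.2 from x.2).symm.trans hx⟩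
  have hc : ρ.ker ≤ Subgroup.center P := fun x hx => by
    rw [Subgroup.mem_center_iff]
    intro g
    obtain ⟨h1, h2⟩ := hmem x hx
    exact Subtype.ext (Prod.ext (Subgroup.mem_center_iff.1 (Fi23Simple.ker_le_center h1) _)
      (Subgroup.mem_center_iff.1 (htz (hξker ▸ h2)) _))
  have hsq : ∀ x : P, x ∈ ρ.ker → x ^ 2 = 1 := fun x hx => by
    obtain ⟨h1, h2⟩ := hmem x hx
    rw [hξker] at h2
    refine Subtype.ext (Prod.ext ?_ ?_)
    · have h := pow_card_eq_one' (x := (⟨_, h1⟩ : Fi23Simple.toFi22.ker))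
      rw [Fi23Simple.card_ker] at h
      exact congrArg Subtype.val h
    · have h := pow_card_eq_one' (x := (⟨_, h2⟩ : Subgroup.zpowers t))
      rw [Nat.card_zpowers, ht] at h
      exact congrArg Subtype.val h
  obtain ⟨m, hm⟩ := exists_surjective_ker_inf CfsgLib.Fi22Mult.fi22_multiplier ρ hρ hc
  have hsmall : Nat.card (ρ.ker ⊓ commutator P : Subgroup P) ≤ 2 :=
    card_le_two_of_cyclic (isCyclic_of_surjective m hm) fun y => Subtype.ext (hsq y.1 y.2.1)
  let p1 : commutator P →* Fi23Cosets.H := (fibreFst _ ξ).comp (commutator P).subtype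
  let p2 : commutator P →* K := (fibreSnd Fi23Simple.toFi22 ξ).comp (commutator P).subtype
  have hp1 : Function.Surjective p1 := fun g => by
    have hg : g ∈ (commutator P).map (fibreFst _ ξ) := by
      rw [SchurCover.map_commutator_eq _ (fibreFst_surjective _ hξ), commutator_stab]; trivial
    obtain ⟨x, hx, rfl⟩ := hg
    exact ⟨⟨x, hx⟩, rfl⟩
  have hp2 : Function.Surjective p2 := fun g => by
    have hg : g ∈ (commutator P).map (fibreSnd Fi23Simple.toFi22 ξ) := by
      rw [SchurCover.map_commutator_eq _ (fibreSnd_surjective hπ ξ), hperf]; trivial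
    obtain ⟨x, hx, rfl⟩ := hg
    exact ⟨⟨x, hx⟩, rfl⟩
  let σ : commutator P →* Cfsg.Spor.Fi22 := ρ.comp (commutator P).subtype
  have hσ : Function.Surjective σ := hπ.comp hp1
  have hker : Nat.card σ.ker ≤ 2 :=
    (Nat.card_le_card_of_injective
      (fun x : σ.ker => (⟨x.1.1, x.2, x.1.2⟩ : (ρ.ker ⊓ commutator P : Subgroup P)))
      (fun x y h => Subtype.ext (Subtype.ext (congrArg (fun u : (ρ.ker ⊓ commutator P : Subgroup P) => (u : P)) h :)))).trans hsmall
  have hcardP : Nat.card (commutator P) ≤ 2 * Nat.card Cfsg.Spor.Fi22 := by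
    rw [← σ.ker.card_mul_index, Subgroup.index_ker, MonoidHom.range_eq_top_of_surjective _ hσ, Subgroup.card_top]
    exact Nat.mul_le_mul_right _ hker
  have hcardH : Nat.card Fi23Cosets.H = 2 * Nat.card Cfsg.Spor.Fi22 := by
    rw [← Fi23Simple.toFi22.ker.card_mul_index, Subgroup.index_ker, Fi23Simple.card_ker,
      MonoidHom.range_eq_top_of_surjective _ hπ, Subgroup.card_top]
  have hcardK : Nat.card K = 2 * Nat.card Cfsg.Spor.Fi22 := by
    rw [← ξ.ker.card_mul_index, Subgroup.index_ker, hξker, Nat.card_zpowers, ht,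
      MonoidHom.range_eq_top_of_surjective _ hξ, Subgroup.card_top]
  have hb1 : Function.Bijective p1 :=
    hp1.bijective_of_nat_card_le (by rw [hcardH]; exact hcardP)
  have hb2 : Function.Bijective p2 :=
    hp2.bijective_of_nat_card_le (by rw [hcardK]; exact hcardP)
  refine ⟨(MulEquiv.ofBijective p1 hb1).symm.trans (MulEquiv.ofBijective p2 hb2), fun g => ?_⟩
  obtain ⟨x, rfl⟩ := hp1 g
  have h : (MulEquiv.ofBijective p1 hb1).symm (p1 x) = x := (MulEquiv.ofBijective p1 hb1).symm_apply_apply x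
  rw [MulEquiv.trans_apply, h]
  exact (show Fi23Simple.toFi22 x.1.1.1 = ξ x.1.1.2 from x.1.2).symm

theorem exists_iso_cover {K : Type*} [Group K] [Finite K] {t : K} (ht : orderOf t = 2)
    [(Subgroup.zpowers t).Normal] (htc : t ∈ Subgroup.center K) (hperf : commutator K = ⊤)
    (e : K ⧸ Subgroup.zpowers t ≃* Cfsg.Spor.Fi22) :
    ∃ f : ↥(Subgroup.centralizer ({z} : Set Cfsg.Spor.Fi23)) ≃* K, ∀ h, (f ⟨z, h⟩ : K) = t := by
  obtain ⟨f, hf⟩ := exists_iso_stab ht htc hperf e
  let g := (MulEquiv.subgroupCongr Fi23Transpositions.centralizer_z).trans f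
  refine ⟨g, fun h => ?_⟩
  have h1 : g ⟨z, h⟩ ∈ Subgroup.zpowers t := by
    have h2 := hf ((MulEquiv.subgroupCongr Fi23Transpositions.centralizer_z) ⟨z, h⟩)
    rw [show Fi23Simple.toFi22 ((MulEquiv.subgroupCongr Fi23Transpositions.centralizer_z) ⟨z, h⟩) = 1 from
      Fi23Simple.toFi22_eq_one.2 Fi23Simple.psi_zw, MulEquiv.map_eq_one_iff, QuotientGroup.mk'_apply,
      QuotientGroup.eq_one_iff] at h2
    exact h2
  have h3 : g ⟨z, h⟩ ≠ 1 := fun h4 =>
    Fi23Simple.zw_ne (congrArg Subtype.val (g.map_eq_one_iff.1 h4))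
  obtain ⟨k, hk⟩ := h1
  simp only at hk
  rcases Int.even_or_odd k with ⟨j, rfl⟩ | ⟨j, rfl⟩
  · exfalso
    apply h3
    rw [← hk, ← two_mul, zpow_mul, show t ^ (2 : ℤ) = t ^ 2 from zpow_ofNat t 2, ← ht, pow_orderOf_eq_one, one_zpow]
  · rw [← hk, zpow_add_one, zpow_mul, show t ^ (2 : ℤ) = t ^ 2 from zpow_ofNat t 2, ← ht, pow_orderOf_eq_one,
      one_zpow, one_mul]

end CfsgLib.FischerTwoFour.Recog
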