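import Cfsg.Agent.Lib.Presented.Fi23Pts.Basic
import Cfsg.Agent.Lib.Presented.Fi23Transpositions
import Cfsg.Agent.Lib.FischerTwoFour.Recog.CritBraidData

/-!
In the presented Fischer group on 23 letters the letter 7 and its conjugate by the transposition of the base point
are the only involutions braided with that transposition which commute with the letters 0, 3 and with the common
centraliser of the four elements.
-/
set_option autoImplicit false
set_option maxRecDepth 20000
set_option Elab.async false

namespace CfsgLib.FischerTwoFour.Recog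

open CfsgLib.Presented
open CfsgLib.ThreeTrans.Inst.FiTwentyThree (P o movedBy movedBy_spec)
open Fi23Cert (rep)

/-- Words to points whose transpositions commute with the four elements. -/
def fixWords : List (List ℕ) := [
  [6, 5, 4, 3, 8, 9, 7, 6, 5, 4, 3, 8, 2, 3, 4, 5, 6, 7],
  [6, 7, 5, 6, 4, 5, 3, 4, 1, 2, 3, 8, 0, 1, 2, 3, 4, 5, 6, 7],
  [9, 6, 7, 5, 6, 4, 5, 3, 4, 1, 2, 3, 8, 0, 1, 2, 3, 4, 5, 6, 7],
  [6, 4, 5, 3, 4, 2, 3, 8, 9, 7, 6, 5, 4, 3, 8, 2, 3, 4, 5, 6, 7]]

/-- The word of the transposition at the end of a word. -/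
def trWord (v : List ℕ) : List ℕ := v ++ Fi23Simple.zw ++ v.reverse

/-- The words whose fixed points are wanted. -/
def stayWords : List (List ℕ) := [[0], [3]] ++ fixWords.map trWord

theorem fix_check : (fixWords.all fun v => Fi23Pts.ok (trWord v) &&
    ([0, 11589, 8000, 8006] : List ℕ).all fun q => Nat.beq (Fi23Pts.img (trWord v) q) q) = true := by
  decide +kernel

theorem point_check : (Fi23Pts.ok Fi23Simple.zw && Nat.beq (Fi23Pts.img Fi23Simple.zw 8006) 1) = true := by
  decide +kernel

/-- The set of the listed points. -/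
noncomputable def bitSet (l : List ℕ) : ℕ := l.foldr (fun p m => Nat.lor (Nat.shiftLeft 1 p) m) 0

/-- The listed points left over when those moved by a word are taken away. -/
noncomputable def dropMoved (l : List ℕ) (w : List ℕ) : ℕ :=
  Vec.force (bitSet l) fun S => Nat.xor S (Nat.land S (movedBy (rep.netW w) (Vec.slices 15)))

theorem start_check : Nat.beq (Vec.force (Nat.lor (movedBy (rep.netW [0]) (Vec.slices 15))
      (movedBy (rep.netW [3]) (Vec.slices 15))) fun M =>
    Vec.force (movedBy (rep.netW Fi23Simple.zw) (Vec.slices 15)) fun S => Nat.xor S (Nat.land S M))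
    (bitSet cands0) = true := by decide +kernel

theorem step0 : Nat.beq (dropMoved cands0 (trWord (fixWords.getD 0 []))) (bitSet cands1) = true := by
  decide +kernel

theorem step1 : Nat.beq (dropMoved cands1 (trWord (fixWords.getD 1 []))) (bitSet cands2) = true := by
  decide +kernel

theorem step2 : Nat.beq (dropMoved cands2 (trWord (fixWords.getD 2 []))) (bitSet cands3) = true := by
  decide +kernel

theorem step3 : Nat.beq (dropMoved cands3 (trWord (fixWords.getD 3 []))) (bitSet [1, 8006]) = true := by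
  decide +kernel

theorem bitSet_mem {l : List ℕ} {p : ℕ} (h : (bitSet l).testBit p = true) : p ∈ l :=
  (CfsgLib.ThreeTrans.Inst.FiTwentyThree.testBit_foldr l p).1 h

theorem left_spec {S M T p : ℕ} (h : Nat.beq (Vec.force M fun M => Vec.force S fun S => Nat.xor S (Nat.land S M)) T = true)
    (hS : S.testBit p = true) (hM : M.testBit p = false) : T.testBit p = true := by
  rw [← Nat.eq_of_beq_eq_true h, Vec.force_eq, Vec.force_eq]
  show Nat.testBit (S ^^^ (S &&& M)) p = true
  rw [Nat.testBit_xor, Nat.testBit_and, hS, hM]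
  rfl

theorem drop_spec {l l' w : List ℕ} {p : ℕ} (h : Nat.beq (dropMoved l w) (bitSet l') = true)
    (hp : (bitSet l).testBit p = true) (hM : (movedBy (rep.netW w) (Vec.slices 15)).testBit p = false) :
    (bitSet l').testBit p = true := by
  rw [← Nat.eq_of_beq_eq_true h, dropMoved, Vec.force_eq]
  show Nat.testBit (_ ^^^ (_ &&& _)) p = true
  rw [Nat.testBit_xor, Nat.testBit_and, hp, hM]
  rfl

theorem fixed_not_moved {w : List ℕ} (hw : Fi23Pts.ok w = true) {i : Fin rep.N}
    (h : P.φ (evW Fi23Cosets.ev w) i = i) : (movedBy (rep.netW w) (Vec.slices 15)).testBit (i : ℕ) = false := by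
  rw [movedBy_spec (Rep.netOk_netW Fi23Cosets.rep_valid w)]
  intro s _
  have h' := congrArg Fin.val h
  change (Fi23Cosets.phi _ i : ℕ) = _ at h'
  rw [Fi23Pts.phi_img hw, Fi23Pts.img_eq] at h'
  rw [h']

theorem moved_of_not_fixed {w : List ℕ} (hw : Fi23Pts.ok w = true) {i : Fin rep.N}
    (h : P.φ (evW Fi23Cosets.ev w) i ≠ i) : (movedBy (rep.netW w) (Vec.slices 15)).testBit (i : ℕ) = true := by
  rw [← Bool.not_eq_false, movedBy_spec (Rep.netOk_netW Fi23Cosets.rep_valid w)]
  intro hs
  apply h
  apply Fin.ext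
  show (Fi23Cosets.phi _ i : ℕ) = _
  rw [Fi23Pts.phi_img hw, Fi23Pts.img_eq]
  have hlt : Vec.netPerm (rep.netW w) i < rep.N := by
    rw [← Fi23Pts.img_eq]; exact Fi23Pts.img_lt hw i.2
  exact (Vec.eq_of_slices (m := 15) (lt_of_lt_of_le i.2 (by decide +kernel)) (lt_of_lt_of_le hlt (by decide +kernel))
    fun s hs' => (hs s hs').symm).symm

theorem j_unique {y : Cfsg.Spor.Fi23} (h2 : y * y = 1) (hz : y ≠ Fi23Transpositions.z)
    (h3 : (Fi23Transpositions.z * y) ^ 3 = 1) (hA : Commute y (Fi23Cosets.ev 0))
    (hD : Commute y (Fi23Cosets.ev 3))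
    (hF : ∀ f, Commute f Fi23Transpositions.z → Commute f (Fi23Cosets.ev 0) → Commute f (Fi23Cosets.ev 3) →
      Commute f (Fi23Cosets.ev 7) → Commute y f) :
    y = Fi23Cosets.ev 7 ∨
      y = Fi23Transpositions.z * Fi23Cosets.ev 7 * Fi23Transpositions.z := by
  set z := Fi23Transpositions.z with hzdef
  have zz : z * z = 1 := Fi23Transpositions.z_sq
  have hPa : P.a = z := rfl
  have yi : y⁻¹ = y := inv_eq_of_mul_eq_one_left h2
  have zi : z⁻¹ = z := inv_eq_of_mul_eq_one_left zz
  -- y is a transposition
  have hbraid : y * z * y = z * y * z := by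
    have e : (z * y) * ((z * y) * (z * y)) = 1 := by rw [← pow_three]; exact h3
    calc y * z * y = y * z * y * ((z * y) * ((z * y) * (z * y))) := by rw [e, mul_one]
      _ = y * z * (y * z) * (y * z) * y * z * y := by group
      _ = (y * z * (y * z) * (y * z)) * (y * z * y) := by group
      _ = z * y * z := by
        have e' : y * z * (y * z) * (y * z) = 1 := by
          calc y * z * (y * z) * (y * z) = z⁻¹ * ((z * y) * ((z * y) * (z * y))) * z := by group
            _ = 1 := by rw [e]; group
        have e2 : z * y * z * (y * z * y) = 1 := by rw [← e]; group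
        rw [e', one_mul, eq_inv_of_mul_eq_one_right e2, mul_inv_rev, mul_inv_rev, yi, zi]
        group
  set p := P.φ (z * y) o with hp
  have hyp : y = P.tp p := by
    have hc := P.tp_phi (z * y)
    rw [hPa, mul_inv_rev, yi, zi] at hc
    rw [show p = P.φ (z * y) P.o from rfl, hc]
    calc y = z * (z * y * z) * z := by rw [← mul_assoc z (z * y) z, ← mul_assoc z z y, zz, one_mul, mul_assoc, zz, mul_one]
      _ = z * (y * z * y) * z := by rw [hbraid]
      _ = z * y * z * (y * z) := by group
  have hfix : ∀ g : Cfsg.Spor.Fi23, Commute g y → P.φ g p = p := fun g hg =>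
    (P.commute_tp_iff g p).1 (hyp ▸ hg)
  have hmove : P.φ z p ≠ p := by
    intro h
    have hc : Commute z y := hyp ▸ (P.commute_tp_iff z p).2 h
    apply hz
    have : z * y = 1 := by
      rw [← h3, hc.mul_pow, pow_three, pow_three, zz, mul_one, h2, mul_one]
    calc y = z * (z * y) := by rw [← mul_assoc, zz, one_mul]
      _ = z := by rw [this, mul_one]
  have hT : ∀ x, x < 10 → Fi23Pts.T (Fi23Pts.gpts.getD x 0) = Fi23Cosets.ev x := Fi23Pts.T_gpts
  have hTz : Fi23Pts.T 0 = z := Fi23Pts.T_zero
  -- the four transpositions commute with y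
  have hstay : ∀ w ∈ stayWords, Fi23Pts.ok w = true ∧
      (movedBy (rep.netW w) (Vec.slices 15)).testBit (p : ℕ) = false := by
    intro w hw
    simp only [stayWords, List.cons_append, List.nil_append, List.mem_cons, List.mem_map] at hw
    rcases hw with rfl | rfl | ⟨v, hv, rfl⟩
    · exact ⟨rfl, fixed_not_moved rfl (hfix _ (by simpa [evW_cons, evW_nil] using hA.symm))⟩
    · exact ⟨rfl, fixed_not_moved rfl (hfix _ (by simpa [evW_cons, evW_nil] using hD.symm))⟩
    · have h := List.all_eq_true.1 fix_check v hv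
      simp only [Bool.and_eq_true, List.all_eq_true] at h
      obtain ⟨hok, hq⟩ := h
      refine ⟨hok, fixed_not_moved hok (hfix _ (hF _ ?_ ?_ ?_ ?_).symm)⟩
      · rw [← hTz, Fi23Pts.commute_T_iff hok (by decide +kernel)]
        exact Nat.eq_of_beq_eq_true (hq 0 (by decide))
      · rw [← hT 0 (by norm_num), Fi23Pts.commute_T_iff hok (by decide +kernel)]
        exact Nat.eq_of_beq_eq_true (hq 11589 (by decide))
      · rw [← hT 3 (by norm_num), Fi23Pts.commute_T_iff hok (by decide +kernel)]
        exact Nat.eq_of_beq_eq_true (hq 8000 (by decide))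
      · rw [← hT 7 (by norm_num), Fi23Pts.commute_T_iff hok (by decide +kernel)]
        exact Nat.eq_of_beq_eq_true (hq 8006 (by decide))
  have hpc := point_check
  simp only [Bool.and_eq_true] at hpc
  have hw : ∀ k, k < 4 → trWord (fixWords.getD k []) ∈ stayWords := by
    intro k hk
    rcases (by omega : k = 0 ∨ k = 1 ∨ k = 2 ∨ k = 3) with rfl | rfl | rfl | rfl <;>
      exact List.mem_append_right _ (List.mem_map.2 ⟨_, by decide, rfl⟩)
  have h03 : (Nat.lor (movedBy (rep.netW [0]) (Vec.slices 15))
      (movedBy (rep.netW [3]) (Vec.slices 15))).testBit (p : ℕ) = false := by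
    rw [show ∀ a b : ℕ, Nat.lor a b = a ||| b from fun _ _ => rfl, Nat.testBit_or,
      (hstay [0] List.mem_cons_self).2, (hstay [3] (List.mem_cons_of_mem _ List.mem_cons_self)).2]
    rfl
  have c0 := left_spec start_check (moved_of_not_fixed hpc.1 hmove) h03
  have c1 := drop_spec step0 c0 (hstay _ (hw 0 (by norm_num))).2
  have c2 := drop_spec step1 c1 (hstay _ (hw 1 (by norm_num))).2
  have c3 := drop_spec step2 c2 (hstay _ (hw 2 (by norm_num))).2
  have c4 := bitSet_mem (drop_spec step3 c3 (hstay _ (hw 3 (by norm_num))).2)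
  have hp2 : (p : ℕ) = 1 ∨ (p : ℕ) = 8006 := by simpa using c4
  have hyT : y = Fi23Pts.T (p : ℕ) := by rw [Fi23Pts.T, Fi23Pts.pt_self]; exact hyp
  rcases hp2 with e | e
  · right
    have hc := Fi23Pts.conj_T hpc.1 (show 8006 < rep.N by decide +kernel)
    rw [Nat.eq_of_beq_eq_true hpc.2, show Fi23Pts.T 8006 = Fi23Cosets.ev 7 from hT 7 (by norm_num)] at hc
    rw [hyT, e, ← hc]
    show z * Fi23Cosets.ev 7 * z⁻¹ = _
    rw [zi]
  · left
    rw [hyT, e]
    exact hT 7 (by norm_num)

end CfsgLib.FischerTwoFour.Recog
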