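import Cfsg.Agent.Lib.Presented.Fi23Pts.Basic
import Cfsg.Agent.Lib.Presented.Fi23Transpositions
import Cfsg.Agent.Lib.ThreeTrans.Inst.FiTwentyThreeType
import Cfsg.Agent.Lib.ThreeTrans.Uniq.AutTop22

/-!
Rigidity of the centraliser of the transposition `xt` of Fi23: an automorphism fixing its even elements
in nine of the ten letters is trivial. The automorphism keeps the class of transpositions modulo the
centre, and two even words leave a single transposition fixed, whose images under nine more even words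
generate the centraliser.
-/
set_option autoImplicit false
set_option maxRecDepth 8000

namespace CfsgLib.FischerTwoFour.Recog.CritFix

open CfsgLib.Presented
open CfsgLib.Presented.Fi23Pts (T pt img ok phi_img conj_T commute_T_iff eqW eqW_spec)
open CfsgLib.Presented.Fi23Cosets (ev)
open CfsgLib.Presented.Fi23Cert (rep)
open CfsgLib.ThreeTrans.Inst
open Subgroup

/-- the points moved by a word, on bit slices -/
noncomputable def moved (w : List ℕ) : ℕ :=
  List.rec (motive := fun _ => ℕ) 0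
    (fun s _ ih => Nat.lor ih (Nat.xor (Vec.applyNet (rep.netW w) s) s)) (Vec.slices rep.m)

theorem moved_fixed {w : List ℕ} {q : ℕ} (h : img w q = q) : (moved w).testBit q = false := by
  unfold moved
  induction Vec.slices rep.m with
  | nil => simp
  | cons s l ih =>
    show Nat.testBit (_ ||| (Vec.applyNet (rep.netW w) s ^^^ s)) q = false
    rw [Nat.testBit_or, ih, Nat.testBit_xor, Vec.testBit_applyNet (Rep.netOk_netW Fi23Cosets.rep_valid w),
      ← Fi23Pts.img_eq, h]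
    simp

/-- the point of `xt` -/
def P0 : ℕ := 26337

/-- a word to the point of `xt` -/
def gW : List ℕ := [0, 1, 2, 3, 8, 9, 4, 3, 8, 5, 6, 4, 5, 2, 3, 4, 1, 2, 3, 8, 9, 8, 6, 4, 5, 3, 4, 1, 2, 3, 8, 0, 1, 2, 3, 4, 5, 6, 7]

/-- the word of `xt` -/
def xw : List ℕ := [0, 1, 2, 3, 4, 8, 9, 3, 2, 1, 8, 3, 5, 4, 6, 3, 2, 1, 0, 7, 8, 3, 5, 4, 6, 3, 2, 1, 8, 9, 3, 2, 8, 3, 4, 5, 4, 3, 8, 2, 3, 9, 8, 1, 2, 3, 6, 4, 5, 3, 8, 7, 0, 1, 2, 3, 6, 4, 5, 3, 8, 1, 2, 3, 9, 8, 4, 3, 2, 1, 0]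

/-- the seed -/
def seed : ℕ := 2900

/-- even words fixing `P0` and the seed -/
def fWords : List (List ℕ) := [[3, 7, 6, 4], [2, 1, 8, 9, 3, 8, 6, 2]]

/-- even words fixing `P0`, taking the seed to the nine generating points -/
def wWords : List (List ℕ) := [[1, 2, 4, 6, 5, 9, 2, 3, 2, 1], [2, 1, 3, 7, 8, 3, 9, 8, 6, 2, 3, 1], [1, 2, 9, 7, 5, 1], [2, 1, 6, 7, 5, 6, 3, 2], [2, 4, 5, 1, 1, 9, 7, 4], [], [2, 3, 2, 5, 6, 7, 9, 5, 6, 5], [1, 9, 7, 4], [1, 2, 4, 8, 9, 3, 8, 5, 6, 2, 1, 9, 7, 4]]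

theorem xw_eq : eqW xw (gW ++ (Fi23Simple.zw ++ gW.reverse)) = true := by decide +kernel

theorem g_img : ok gW = true ∧ img gW 0 = P0 ∧ P0 < rep.N ∧ seed < rep.N := by decide +kernel

theorem seed_near : Nat.beq seed P0 = false ∧ img xw seed = seed := by decide +kernel

/-- even, in the nine letters, and fixing the point of `xt` -/
noncomputable def okE (w : List ℕ) : Bool :=
  ok w && (w.all fun x => Nat.ble 1 x) && Nat.beq (w.length % 2) 0 && Nat.beq (img w P0) P0

theorem f_ok : (fWords.all fun w => okE w && Nat.beq (img w seed) seed) = true := by decide +kernel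

theorem w_ok : (wWords.all okE) = true := by decide +kernel

theorem w_img : (wWords.map fun w => img w seed) = Fi23Simple.hl.map fun l => img gW (Fi23Pts.gpts.getD l 0) := by
  decide +kernel

/-- outside the points moved by `xt` and the two words there are only `P0` and the seed -/
theorem cover_ok : Nat.beq (Nat.land
    (List.rec (motive := fun _ => ℕ) (Nat.lor (Nat.shiftLeft 1 P0) (Nat.shiftLeft 1 seed))
      (fun w _ ih => Nat.lor ih (moved w)) (xw :: fWords)) (Vec.ones rep.N)) (Vec.ones rep.N) = true := by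
  decide +kernel

theorem not_moved {l : List (List ℕ)} {z q : ℕ} (hz : z.testBit q = false) (h : ∀ w ∈ l, img w q = q) :
    (List.rec (motive := fun _ => ℕ) z (fun w _ ih => Nat.lor ih (moved w)) l).testBit q = false := by
  induction l with
  | nil => exact hz
  | cons w l ih =>
    show Nat.testBit (_ ||| moved w) q = false
    rw [Nat.testBit_or, ih fun v hv => h v (List.mem_cons_of_mem _ hv), moved_fixed (h w List.mem_cons_self)]
    rfl

theorem bit_of_cover {X n q : ℕ} (h : Nat.beq (Nat.land X (Vec.ones n)) (Vec.ones n) = true) (hq : q < n) :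
    X.testBit q = true := by
  have h1 : (X &&& Vec.ones n).testBit q = (Vec.ones n).testBit q :=
    congrArg (fun m => m.testBit q) (Nat.eq_of_beq_eq_true h)
  simpa [Nat.testBit_and, Vec.testBit_ones, hq] using h1

/-- the only common fixed point -/
theorem fixed_eq {q : ℕ} (hq : q < rep.N) (hne : q ≠ P0) (hx : img xw q = q)
    (hf : ∀ w ∈ fWords, img w q = q) : q = seed := by
  by_contra hs
  have hz : (Nat.lor (Nat.shiftLeft 1 P0) (Nat.shiftLeft 1 seed)).testBit q = false := by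
    show Nat.testBit ((1 <<< P0) ||| (1 <<< seed)) q = false
    rw [Nat.one_shiftLeft, Nat.one_shiftLeft, Nat.testBit_or, Nat.testBit_two_pow_of_ne (Ne.symm hne),
      Nat.testBit_two_pow_of_ne (Ne.symm hs)]
    rfl
  have hm := not_moved (l := xw :: fWords) hz (List.forall_mem_cons.2 ⟨hx, hf⟩)
  exact Bool.noConfusion ((bit_of_cover cover_ok hq).symm.trans hm)

/-- the element to the point of `xt` -/
noncomputable def g : Cfsg.Spor.Fi23 := evW ev gW

theorem T_P0 : T P0 = g * T 0 * g⁻¹ := by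
  rw [g, conj_T g_img.1 (VCert.pos Fi23Cert.cert_ok), g_img.2.1]

theorem xt_eq : evW ev xw = T P0 := by
  rw [eqW_spec xw_eq, evW_append, evW_append, Fi23Pts.evW_rev g_img.1, T_P0, g, Fi23Pts.T_zero, ← mul_assoc]
  rfl

/-- the centraliser -/
noncomputable abbrev C : Subgroup Cfsg.Spor.Fi23 := centralizer ({evW ev xw} : Set Cfsg.Spor.Fi23)

theorem mem_C {x : Cfsg.Spor.Fi23} : x ∈ C ↔ Commute x (T P0) := by
  rw [mem_centralizer_singleton_iff, xt_eq]
  exact Iff.rfl

theorem conj_comm {x : Cfsg.Spor.Fi23} : Commute (g⁻¹ * x * g) (T 0) ↔ Commute x (T P0) := by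
  rw [← CfsgLib.ThreeTrans.commute_conj_iff g, ← T_P0, show g * (g⁻¹ * x * g) * g⁻¹ = x by group]

theorem mem_H_iff {x : Cfsg.Spor.Fi23} : x ∈ Fi23Cosets.H ↔ Commute x (T 0) := by
  rw [Fi23Pts.T_zero]
  exact ⟨FiTwentyThree.commute_a, fun h => FiTwentyThree.mem_H_of_fix (FiTwentyThree.fix x h)⟩

theorem conj_mem_H (x : C) : g⁻¹ * (x : Cfsg.Spor.Fi23) * g ∈ Fi23Cosets.H :=
  mem_H_iff.2 (conj_comm.2 (mem_C.1 x.2))

theorem conj_mem_C (x : Fi23Cosets.H) : g * (x : Cfsg.Spor.Fi23) * g⁻¹ ∈ C := by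
  rw [mem_C, ← conj_comm, show g⁻¹ * (g * (x : Cfsg.Spor.Fi23) * g⁻¹) * g = x by group]
  exact mem_H_iff.1 x.2

/-- moving the centraliser to the stabiliser of the base point -/
noncomputable def toH : C ≃* Fi23Cosets.H where
  toFun x := ⟨g⁻¹ * x * g, conj_mem_H x⟩
  invFun x := ⟨g * x * g⁻¹, conj_mem_C x⟩
  left_inv x := Subtype.ext (show g * (g⁻¹ * (x : Cfsg.Spor.Fi23) * g) * g⁻¹ = x by group)
  right_inv x := Subtype.ext (show g⁻¹ * (g * (x : Cfsg.Spor.Fi23) * g⁻¹) * g = x by group)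
  map_mul' x y := Subtype.ext (show g⁻¹ * ((x : Cfsg.Spor.Fi23) * y) * g =
    g⁻¹ * (x : Cfsg.Spor.Fi23) * g * (g⁻¹ * (y : Cfsg.Spor.Fi23) * g) by group)

/-- onto Fi22 -/
noncomputable def proj : C →* Cfsg.Spor.Fi22 := Fi23Simple.toFi22.comp toH.toMonoidHom

theorem proj_surjective : Function.Surjective proj := Fi23Simple.toFi22_surjective.comp toH.surjective

theorem ker_proj : proj.ker = center C := by
  ext x
  rw [proj, MonoidHom.mem_ker, MonoidHom.comp_apply, ← MonoidHom.mem_ker, ← Fi23Simple.center_eq,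
    mem_center_iff, mem_center_iff]
  refine ⟨fun h y => toH.injective (by simpa using h (toH y)), fun h y => ?_⟩
  obtain ⟨y, rfl⟩ := toH.surjective y
  simpa using congrArg toH (h y)

/-- a transposition of the centraliser, other than the central one -/
def Nbr (q : ℕ) : Prop := q < rep.N ∧ q ≠ P0 ∧ img xw q = q

theorem T_inj {p q : ℕ} (hp : p < rep.N) (hq : q < rep.N) (h : T p = T q) : p = q := by
  have := congrArg Fin.val (FiTwentyThree.P.tp_injective h)
  rwa [Fi23Pts.pt_val hp, Fi23Pts.pt_val hq] at this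

theorem xw_lt : ok xw = true := by decide +kernel

theorem Nbr.mem {q : ℕ} (h : Nbr q) : T q ∈ C := by
  rw [mem_C, ← xt_eq]
  exact ((commute_T_iff xw_lt h.1).2 h.2.2).symm

theorem proj_mem {q : ℕ} (h : Nbr q) : proj ⟨T q, h.mem⟩ ∈ FiTwentyTwo.D := by
  have hn : g⁻¹ * T q * g ∈ FiTwentyThree.nbrs := by
    refine ⟨?_, ?_, ?_⟩
    · simpa [T] using FiTwentyThree.P.conj_mem g⁻¹ (FiTwentyThree.P.tp_mem (pt q))
    · intro e
      rw [← Fi23Pts.T_zero] at e
      refine h.2.1 (T_inj h.1 g_img.2.2.1 ?_)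
      rw [T_P0, ← e]
      group
    · rw [← Fi23Pts.T_zero]
      exact (conj_comm.2 (mem_C.1 h.mem)).symm
  rw [← FiTwentyThree.image_nbrs_eq]
  exact ⟨⟨_, subset_closure hn⟩, hn, rfl⟩

theorem exists_nbr {y : Cfsg.Spor.Fi22} (hy : y ∈ FiTwentyTwo.D) :
    ∃ (q : ℕ) (h : Nbr q), proj ⟨T q, h.mem⟩ = y := by
  rw [← FiTwentyThree.image_nbrs_eq] at hy
  obtain ⟨⟨x, hxc⟩, ⟨hD, hne, hc⟩, rfl⟩ := hy
  obtain ⟨j, hj⟩ := FiTwentyThree.P.tp_surj (FiTwentyThree.P.conj_mem g hD)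
  have hT : T j = g * x * g⁻¹ := by rw [Fi23Pts.T, Fi23Pts.pt_self]; exact hj
  have hxH : x ∈ Fi23Cosets.H := FiTwentyThree.nbrs_le hxc
  have hN : Nbr j := by
    refine ⟨j.2, fun e => hne ?_, ?_⟩
    · have e' : g * x * g⁻¹ = g * T 0 * g⁻¹ := by rw [← T_P0, ← hT, e]
      rw [← Fi23Pts.T_zero]
      exact mul_left_cancel (mul_right_cancel e')
    · refine (commute_T_iff xw_lt j.2).1 ?_
      rw [xt_eq, hT]
      exact (mem_C.1 (conj_mem_C ⟨x, hxH⟩)).symm
  refine ⟨j, hN, ?_⟩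
  show Fi23Simple.toFi22 _ = Fi23Simple.toFi22 _
  refine congrArg _ (Subtype.ext ?_)
  show g⁻¹ * T j * g = x
  rw [hT]; group

/-- the even elements in nine letters -/
def E : Subgroup Cfsg.Spor.Fi23 :=
  closure {g | ∃ p q, 1 ≤ p ∧ p < 10 ∧ 1 ≤ q ∧ q < 10 ∧ g = Fi23Cosets.ev p * Fi23Cosets.ev q}

theorem mem_E : ∀ w : List ℕ, (∀ x ∈ w, 1 ≤ x ∧ x < 10) → w.length % 2 = 0 → evW ev w ∈ E
  | [], _, _ => by rw [evW_nil]; exact one_mem _
  | [_], _, h => by simp at h
  | a :: b :: w, hl, h => by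
    obtain ⟨h1, h2⟩ := List.forall_mem_cons.1 hl
    obtain ⟨h3, h4⟩ := List.forall_mem_cons.1 h2
    rw [evW_cons, evW_cons, ← mul_assoc]
    refine mul_mem (subset_closure ⟨a, b, h1.1, h1.2, h3.1, h3.2, rfl⟩) (mem_E w h4 ?_)
    simp only [List.length_cons] at h
    omega

theorem okE_spec {w : List ℕ} (h : okE w = true) : ok w = true ∧ evW ev w ∈ C ∧ evW ev w ∈ E := by
  simp only [okE, Bool.and_eq_true, List.all_eq_true] at h
  obtain ⟨⟨⟨h1, h2⟩, h3⟩, h4⟩ := h
  refine ⟨h1, mem_C.2 ((commute_T_iff h1 g_img.2.2.1).2 (Nat.eq_of_beq_eq_true h4)),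
    mem_E w (fun x hx => ⟨Nat.le_of_ble_eq_true (h2 x hx), Fi23Pts.lt_of_ok h1 x hx⟩)
    (Nat.eq_of_beq_eq_true h3)⟩

/-- The rigidity. -/
theorem rigid (σ : MulAut C) (h : ∀ f : C, (f : Cfsg.Spor.Fi23) ∈ E → σ f = f) : σ = 1 := by
  have hcenter : ∀ x, x ∈ center C → σ x ∈ center C := fun x hx => by
    rw [mem_center_iff] at hx ⊢
    intro y
    obtain ⟨y, rfl⟩ := σ.surjective y
    rw [← map_mul, ← map_mul, hx]
  have := FiTwentyTwo.finite_fi22
  let α₀ : Cfsg.Spor.Fi22 →* Cfsg.Spor.Fi22 :=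
    proj.liftOfSurjective proj_surjective ⟨proj.comp σ.toMonoidHom, fun x hx => by
      rw [ker_proj] at hx
      rw [MonoidHom.mem_ker, MonoidHom.comp_apply, ← MonoidHom.mem_ker, ker_proj]
      exact hcenter x hx⟩
  have hα : ∀ x, α₀ (proj x) = proj (σ x) := fun x =>
    MonoidHom.liftOfRightInverse_comp_apply _ _ _ _ x
  have hα_surj : Function.Surjective α₀ := fun y => by
    obtain ⟨x, rfl⟩ := proj_surjective y
    exact ⟨proj (σ.symm x), by rw [hα, MulEquiv.apply_symm_apply]⟩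
  let α : MulAut Cfsg.Spor.Fi22 :=
    MulEquiv.ofBijective α₀ ⟨Finite.injective_iff_surjective.2 hα_surj, hα_surj⟩
  -- the seed
  have hS : Nbr seed :=
    ⟨g_img.2.2.2, fun e => by simpa [e] using seed_near.1, seed_near.2⟩
  have hseed : proj (σ ⟨T seed, hS.mem⟩) = proj ⟨T seed, hS.mem⟩ := by
    obtain ⟨q, hq, he⟩ := exists_nbr (CfsgLib.ThreeTrans.Uniq.mapsTo22 FiTwentyTwo.isGroup FiTwentyTwo.primitive
      FiTwentyTwo.typeM22 α (proj_mem hS))
    have he' : proj ⟨T q, hq.mem⟩ = proj (σ ⟨T seed, hS.mem⟩) := he.trans (hα _)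
    have hc : (⟨T q, hq.mem⟩ : C)⁻¹ * σ ⟨T seed, hS.mem⟩ ∈ center C := by
      rw [← ker_proj, MonoidHom.mem_ker, map_mul, map_inv, he', inv_mul_cancel]
    have hf : ∀ w ∈ fWords, img w q = q := by
      intro w hw
      have h1 := List.all_eq_true.1 f_ok w hw
      rw [Bool.and_eq_true] at h1
      obtain ⟨hok, hC, hE⟩ := okE_spec h1.1
      have hcs : Commute (⟨evW ev w, hC⟩ : C) ⟨T seed, hS.mem⟩ :=
        Subtype.ext ((commute_T_iff hok g_img.2.2.2).2 (Nat.eq_of_beq_eq_true h1.2))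
      have h2 := hcs.map σ.toMonoidHom
      simp only [MulEquiv.coe_toMonoidHom, h ⟨evW ev w, hC⟩ hE] at h2
      have h3 : Commute (⟨evW ev w, hC⟩ : C) ⟨T q, hq.mem⟩ := by
        have h4 := h2.mul_right ((show Commute (⟨evW ev w, hC⟩ : C) _ from
          mem_center_iff.1 hc _).inv_right)
        rwa [mul_inv_rev, inv_inv, mul_inv_cancel_left] at h4
      exact (commute_T_iff hok hq.1).1 (congrArg Subtype.val h3)
    have hqs : q = seed := fixed_eq hq.1 hq.2.1 hq.2.2 hf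
    subst hqs
    exact he'.symm
  -- the generators
  let φ₁ : Fi23Cosets.H →* Cfsg.Spor.Fi22 := proj.comp (σ.toMonoidHom.comp toH.symm.toMonoidHom)
  have hgen : ∀ l ∈ Fi23Simple.hl, ∃ hm : ev l ∈ Fi23Cosets.H,
      φ₁ ⟨ev l, hm⟩ = Fi23Simple.toFi22 ⟨ev l, hm⟩ := by
    intro l hl
    have hm : ev l ∈ Fi23Cosets.H := Fi23Order.H_eq_genBy ▸ mem_genBy ev hl
    refine ⟨hm, ?_⟩
    have hl10 : l < 10 := by
      have key : ∀ x ∈ Fi23Simple.hl, x < 10 := by decide
      exact key l hl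
    have hmem : img gW (Fi23Pts.gpts.getD l 0) ∈ wWords.map fun w => img w seed := by
      rw [w_img]; exact List.mem_map.2 ⟨l, hl, rfl⟩
    obtain ⟨w, hw, hwe⟩ := List.mem_map.1 hmem
    obtain ⟨hok, hC, hE⟩ := okE_spec (List.all_eq_true.1 w_ok w hw)
    have hx : toH.symm ⟨ev l, hm⟩ = ⟨evW ev w, hC⟩ * ⟨T seed, hS.mem⟩ * (⟨evW ev w, hC⟩ : C)⁻¹ := by
      refine Subtype.ext ?_
      show g * ev l * g⁻¹ = evW ev w * T seed * (evW ev w)⁻¹
      rw [conj_T hok g_img.2.2.2, hwe, ← Fi23Pts.T_gpts l hl10, g, conj_T g_img.1]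
      exact Fi23Pts.gpts_lt _ (by
        rw [List.getD_eq_getElem _ _ (show l < Fi23Pts.gpts.length from hl10)]
        exact List.getElem_mem _)
    show proj (σ (toH.symm ⟨ev l, hm⟩)) = _
    have e : proj (σ (toH.symm ⟨ev l, hm⟩)) = proj (toH.symm ⟨ev l, hm⟩) := by
      rw [hx]
      simp only [map_mul, map_inv, h ⟨evW ev w, hC⟩ hE, hseed]
    rw [e]
    show Fi23Simple.toFi22 (toH (toH.symm _)) = _
    rw [MulEquiv.apply_symm_apply]
  have hφ : φ₁ = Fi23Simple.toFi22 := by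
    have key : ∀ x, x ∈ genBy ev Fi23Simple.hl → ∀ hx : x ∈ Fi23Cosets.H,
        φ₁ ⟨x, hx⟩ = Fi23Simple.toFi22 ⟨x, hx⟩ := by
      intro x hx
      induction hx using Subgroup.closure_induction with
      | mem y hy => obtain ⟨l, hl, rfl⟩ := hy; intro _; exact (hgen l hl).2
      | one => intro _; exact (map_one φ₁).trans (map_one Fi23Simple.toFi22).symm
      | mul a b ha hb iha ihb =>
        intro hab
        have ha' : a ∈ Fi23Cosets.H := Fi23Order.H_eq_genBy ▸ ha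
        have hb' : b ∈ Fi23Cosets.H := Fi23Order.H_eq_genBy ▸ hb
        have e : (⟨a * b, hab⟩ : Fi23Cosets.H) = ⟨a, ha'⟩ * ⟨b, hb'⟩ := rfl
        rw [e, map_mul, map_mul, iha, ihb]
      | inv a ha iha =>
        intro hai
        have ha' : a ∈ Fi23Cosets.H := Fi23Order.H_eq_genBy ▸ ha
        have e : (⟨a⁻¹, hai⟩ : Fi23Cosets.H) = ⟨a, ha'⟩⁻¹ := rfl
        rw [e, map_inv, map_inv, iha]
    exact MonoidHom.ext fun x => key x (Fi23Order.H_eq_genBy ▸ x.2) x.2
  have hproj : ∀ x, proj (σ x) = proj x := fun x => by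
    have := DFunLike.congr_fun hφ (toH x)
    simpa [φ₁, proj] using this
  -- the difference is a map to the centre
  have hdiff : ∀ x, x⁻¹ * σ x ∈ center C := fun x => by
    rw [← ker_proj, MonoidHom.mem_ker, map_mul, map_inv, hproj, inv_mul_cancel]
  let χ : Fi23Cosets.H →* center C := MonoidHom.mk' (fun y => ⟨_, hdiff (toH.symm y)⟩) fun y z => Subtype.ext (by
    show (toH.symm (y * z))⁻¹ * σ (toH.symm (y * z)) =
      (toH.symm y)⁻¹ * σ (toH.symm y) * ((toH.symm z)⁻¹ * σ (toH.symm z))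
    rw [map_mul toH.symm, map_mul σ, mul_inv_rev]
    have hc := mem_center_iff.1 (hdiff (toH.symm y)) (toH.symm z)⁻¹
    calc (toH.symm z)⁻¹ * (toH.symm y)⁻¹ * (σ (toH.symm y) * σ (toH.symm z))
        = (toH.symm z)⁻¹ * ((toH.symm y)⁻¹ * σ (toH.symm y)) * σ (toH.symm z) := by group
      _ = _ := by rw [hc]; group)
  have hχ := Fi23Simple.killed (fun a b : center C => Subtype.ext (mem_center_iff.1 b.2 a)) χ
  refine MulEquiv.ext fun x => ?_
  have h0 : x⁻¹ * σ x = 1 := by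
    have h1 := congrArg Subtype.val (DFunLike.congr_fun hχ (toH x))
    simpa [χ] using h1
  exact (inv_mul_eq_one.1 h0).symm

end CfsgLib.FischerTwoFour.Recog.CritFix

namespace CfsgLib.FischerTwoFour.Recog

open CfsgLib.Presented

/-- An automorphism of the centraliser of `xt` fixing its even elements in nine letters is trivial. -/
theorem fix_unique (σ : MulAut ↥(Subgroup.centralizer ({evW Fi23Cosets.ev CritFix.xw} : Set Cfsg.Spor.Fi23)))
    (h : ∀ f : ↥(Subgroup.centralizer ({evW Fi23Cosets.ev CritFix.xw} : Set Cfsg.Spor.Fi23)),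
      (f : Cfsg.Spor.Fi23) ∈ Subgroup.closure
        {g | ∃ p q, 1 ≤ p ∧ p < 10 ∧ 1 ≤ q ∧ q < 10 ∧ g = Fi23Cosets.ev p * Fi23Cosets.ev q} → σ f = f) : σ = 1 :=
  CritFix.rigid σ h

end CfsgLib.FischerTwoFour.Recog
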