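/-!
Certificate data: words to points of the presented Fischer group on 24 letters fixed by the letters 0, 1, 4, 9,
and adjacency patterns which single out the points of the other letters.
-/
set_option autoImplicit false

namespace CfsgLib.FischerTwoFour.Recog

/-- Words to points commuting with the letters 0, 1, 4, 9. -/
def commWords : List (List Nat) := [
  [3, 4, 2, 3, 1, 2, 0, 1],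
  [5, 4, 2, 3, 1, 2, 0, 1],
  [6, 5, 4, 2, 3, 1, 2, 0, 1],
  [10, 5, 4, 2, 3, 1, 2, 0, 1],
  [7, 6, 5, 4, 2, 3, 1, 2, 0, 1],
  [11, 10, 5, 4, 2, 3, 1, 2, 0, 1],
  [5, 6, 4, 5, 3, 4, 2, 3, 1, 2, 0, 1],
  [5, 10, 4, 5, 3, 4, 2, 3, 1, 2, 0, 1],
  [5, 10, 6, 5, 3, 4, 2, 3, 1, 2, 0, 1],
  [7, 5, 6, 4, 5, 3, 4, 2, 3, 1, 2, 0, 1],
  [11, 5, 10, 4, 5, 3, 4, 2, 3, 1, 2, 0, 1],
  [6, 7, 5, 6, 4, 5, 3, 4, 2, 3, 1, 2, 0, 1],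
  [10, 11, 5, 10, 4, 5, 3, 4, 2, 3, 1, 2, 0, 1],
  [10, 11, 5, 10, 6, 5, 3, 4, 2, 3, 1, 2, 0, 1],
  [5, 10, 11, 4, 5, 10, 6, 5, 4, 2, 3, 1, 2, 0, 1],
  [8, 9, 7, 8, 6, 7, 5, 6, 4, 5, 3, 4, 2, 3, 1, 2, 0, 1],
  [8, 7, 6, 5, 10, 9, 8, 7, 6, 5, 3, 4, 2, 3, 1, 2, 0, 1],
  [8, 7, 5, 6, 4, 5, 10, 9, 8, 7, 6, 5, 4, 2, 3, 1, 2, 0, 1],
  [3, 4, 5, 10, 8, 6, 7, 5, 6, 4, 5, 10, 9, 8, 7, 6, 5, 4, 2, 3, 1, 2, 0, 1],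
  [7, 6, 3, 4, 5, 10, 11, 7, 8, 6, 7, 5, 6, 4, 5, 10, 9, 8, 7, 6, 5, 4, 2, 3, 1, 2, 0, 1]]

/-- The pattern cutting out the three points of the first two letters. -/
def trianglePat : List (List Nat × Bool) := [([3, 4, 2, 3, 1, 2, 0, 1], true), ([8, 9, 7, 8, 6, 7, 5, 6, 4, 5, 3, 4, 2, 3, 1, 2, 0, 1], true), ([7, 6, 3, 4, 5, 10, 11, 7, 8, 6, 7, 5, 6, 4, 5, 10, 9, 8, 7, 6, 5, 4, 2, 3, 1, 2, 0, 1], true), ([6, 5, 4, 2, 3, 1, 2, 0, 1], true), ([7, 6, 5, 4, 2, 3, 1, 2, 0, 1], true), ([5, 4, 2, 3, 1, 2, 0, 1], true), ([10, 5, 4, 2, 3, 1, 2, 0, 1], true)]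

/-- For some letters, a pattern and the points it allows. -/
def letterPats : List (Nat × List (List Nat × Bool) × List Nat) := [
  (2, [([3, 4, 2, 3, 1, 2, 0, 1], true), ([5, 6, 4, 5, 3, 4, 2, 3, 1, 2, 0, 1], true), ([7, 5, 6, 4, 5, 3, 4, 2, 3, 1, 2, 0, 1], true), ([5, 10, 6, 5, 3, 4, 2, 3, 1, 2, 0, 1], true), ([3, 4, 5, 10, 8, 6, 7, 5, 6, 4, 5, 10, 9, 8, 7, 6, 5, 4, 2, 3, 1, 2, 0, 1], true), ([11, 5, 10, 4, 5, 3, 4, 2, 3, 1, 2, 0, 1], true), ([5, 4, 2, 3, 1, 2, 0, 1], false)], [6]),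
  (3, [([0, 1], true), ([5, 6, 4, 5, 3, 4, 2, 3, 1, 2, 0, 1], true), ([7, 5, 6, 4, 5, 3, 4, 2, 3, 1, 2, 0, 1], true), ([5, 10, 11, 4, 5, 10, 6, 5, 4, 2, 3, 1, 2, 0, 1], true), ([3, 4, 2, 3, 1, 2, 0, 1], false), ([8, 7, 5, 6, 4, 5, 10, 9, 8, 7, 6, 5, 4, 2, 3, 1, 2, 0, 1], true), ([5, 4, 2, 3, 1, 2, 0, 1], false)], [12, 17]),
  (5, [([0, 1], true), ([6, 5, 4, 2, 3, 1, 2, 0, 1], true), ([7, 6, 5, 4, 2, 3, 1, 2, 0, 1], true), ([10, 11, 5, 10, 6, 5, 3, 4, 2, 3, 1, 2, 0, 1], true), ([3, 4, 2, 3, 1, 2, 0, 1], false), ([8, 7, 6, 5, 10, 9, 8, 7, 6, 5, 3, 4, 2, 3, 1, 2, 0, 1], true), ([5, 4, 2, 3, 1, 2, 0, 1], false)], [35, 51]),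
  (8, [([0, 1], true), ([3, 4, 2, 3, 1, 2, 0, 1], true), ([5, 4, 2, 3, 1, 2, 0, 1], true), ([6, 5, 4, 2, 3, 1, 2, 0, 1], true), ([10, 5, 4, 2, 3, 1, 2, 0, 1], true), ([11, 10, 5, 4, 2, 3, 1, 2, 0, 1], true), ([7, 6, 5, 4, 2, 3, 1, 2, 0, 1], false), ([8, 9, 7, 8, 6, 7, 5, 6, 4, 5, 3, 4, 2, 3, 1, 2, 0, 1], false)], [510, 707])]

end CfsgLib.FischerTwoFour.Recog
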