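import Cfsg.Agent.Lib.FischerTwoFour.Recog.CritTools
import Cfsg.Agent.Lib.FischerTwoFour.Recog.CritPairData

/-!
The subgroup of order three of the first two letters of the presented Fischer group on 24 letters is singled out
by commuting with two further letters and with the even part of the centraliser of the four letters.
-/
set_option autoImplicit false
set_option maxRecDepth 20000
set_option Elab.async false

namespace CfsgLib.FischerTwoFour.Recog

open CfsgLib.Presented CfsgLib.Presented.Vec
open CfsgLib.Fi24Out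
open Fi24Cert (rep rep_valid)
open Cfsg.Agent.S1691 (sgn)

/-- Points with prescribed adjacency to the listed points, inside a given set. -/
noncomputable def cutSet (S : ℕ) (vs : List (List ℕ × Bool)) : ℕ :=
  vs.foldr (fun e acc => force acc fun T =>
    Nat.land T (cond e.2 (md.nearSet e.1) (Nat.xor (md.nearSet e.1) (ones rep.N)))) S

theorem cutSet_invariant {y : Cfsg.Spor.Fi24} {S : ℕ}
    (hS : ∀ i : Pt, S.testBit (i : ℕ) = true → S.testBit (md.phi y i : ℕ) = true) :
    ∀ {vs : List (List ℕ × Bool)}, (∀ e ∈ vs, md.okW e.1 = true ∧ md.phi y (pt e.1) = pt e.1) →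
      ∀ i : Pt, (cutSet S vs).testBit (i : ℕ) = true → (cutSet S vs).testBit (md.phi y i : ℕ) = true
  | [], _, i, hi => hS i hi
  | e :: vs, h, i, hi => by
    obtain ⟨hok, hfix⟩ := h e List.mem_cons_self
    have hn : (md.nearSet e.1).testBit (md.phi y i : ℕ) = (md.nearSet e.1).testBit (i : ℕ) := by
      rw [Bool.eq_iff_iff, md.nearSet_iff hok rfl, md.nearSet_iff hok rfl]
      have := md.near_apply y (pt e.1) i
      rw [hfix] at this
      exact this
    have ih := cutSet_invariant hS (vs := vs) fun x hx => h x (List.mem_cons_of_mem _ hx)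
    change Nat.testBit (force (cutSet S vs) fun T =>
      Nat.land T (cond e.2 (md.nearSet e.1) (Nat.xor (md.nearSet e.1) (ones rep.N)))) _ = true at hi ⊢
    rw [force_eq] at hi ⊢
    change Nat.testBit (_ &&& _) _ = true at hi ⊢
    rw [Nat.testBit_and, Bool.and_eq_true] at hi ⊢
    refine ⟨ih i hi.1, ?_⟩
    rcases Bool.eq_false_or_eq_true e.2 with hb | hb
    · rw [hb, cond_true] at hi ⊢
      rw [hn]
      exact hi.2
    · rw [hb, cond_false] at hi ⊢
      have h2 := hi.2
      change Nat.testBit (_ ^^^ _) _ = true at h2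
      show Nat.testBit (_ ^^^ _) _ = true
      rw [Nat.testBit_xor, testBit_ones, decide_eq_true (show (i : ℕ) < rep.N from i.2)] at h2
      rw [Nat.testBit_xor, testBit_ones, decide_eq_true (show (md.phi y i : ℕ) < rep.N from (md.phi y i).2), hn]
      exact h2

/-- The check on one word of a commuting point. -/
noncomputable def commOK (v : List ℕ) : Bool :=
  md.okW v && force (fAt v 0) fun q => ([0, 1, 4, 9] : List ℕ).all fun x => Nat.beq (fAt [x] q) q

theorem comm_check : commWords.all commOK = true := by decide +kernel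

theorem small_check : ((commWords.contains (genPtWord 4) || commWords.any fun v =>
      Nat.beq (fAt v 0) (fAt (genPtWord 4) 0)) &&
    (([0, 1, 4, 9] : List ℕ).all fun x => md.okW [x] && Nat.beq (fAt [x] (fAt (genPtWord 4) 0)) (fAt (genPtWord 4) 0)) &&
    (([4, 6, 7, 9, 10, 11] : List ℕ).all fun x => commWords.any fun v =>
      Nat.beq (fAt v 0) (fAt (genPtWord x) 0)) &&
    (trianglePat.all fun e => commWords.contains e.1) &&
    (letterPats.all fun p => Nat.blt p.1 12 && p.2.1.all fun e => commWords.contains e.1 ||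
      (md.okW e.1 && Nat.beq (fAt e.1 0) 2)) &&
    Nat.beq (fAt [0, 1] 0) 2 && Nat.beq (fAt [0, 1] 1) 0 && Nat.beq (fAt [0, 1] 2) 1 &&
    Nat.beq (fAt [1, 0] 0) 2 == false && trivOK [0, 1] 3 && trivOK [0, 0] 1) = true := by decide +kernel

theorem triangle_check : (subOn rep (cutSet (ones rep.N) trianglePat) (ptsSet [0, 1, 2]) &&
    (([0, 1, 2] : List ℕ).all fun q => (cutSet (ones rep.N) trianglePat).testBit q)) = true := by
  decide +kernel

/-- The check on the pattern of one letter. -/
noncomputable def patOK (p : ℕ × List (List ℕ × Bool) × List ℕ) : Bool :=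
  subOn rep (cutSet md.N0 p.2.1) (ptsSet p.2.2) && Nat.ble p.2.2.length 2 &&
    (cutSet md.N0 p.2.1).testBit (fAt (genPtWord p.1) 0)

theorem pat_check : letterPats.all patOK = true := by decide +kernel

theorem pat_cover : ∀ x, 2 ≤ x → x < 12 → x ∈ ([4, 6, 7, 9, 10, 11] : List ℕ) ∨
    ∃ p ∈ letterPats, p.1 = x := by
  intro x h2 h12
  rcases (by omega : x = 2 ∨ x = 3 ∨ x = 4 ∨ x = 5 ∨ x = 6 ∨ x = 7 ∨ x = 8 ∨ x = 9 ∨ x = 10 ∨ x = 11)
    with rfl | rfl | rfl | rfl | rfl | rfl | rfl | rfl | rfl | rfl <;>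
    simp [letterPats]

/-- The points of the triangle. -/
noncomputable abbrev triPts : Set Pt := {i | (i : ℕ) ≤ 2}

/-- An element of order dividing three cannot interchange two points. -/
theorem fix_of_two {y : Cfsg.Spor.Fi24} (h3 : y ^ 3 = 1) {i : Pt} {l : List ℕ} (hl : l.length ≤ 2)
    (hi : (i : ℕ) ∈ l) (h1 : (md.phi y i : ℕ) ∈ l) (h2 : (md.phi y (md.phi y i) : ℕ) ∈ l) :
    md.phi y i = i := by
  have hcyc : md.phi y (md.phi y (md.phi y i)) = i := by
    have := congrArg (fun g => md.phi g i) h3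
    simpa [pow_three, map_mul, Equiv.Perm.mul_apply] using this
  match l, hl with
  | [], _ => simp at hi
  | [a], _ =>
    simp only [List.mem_singleton] at hi h1
    exact Fin.ext (h1.trans hi.symm)
  | [a, b], _ =>
    simp only [List.mem_cons, List.not_mem_nil, or_false] at hi h1 h2
    by_contra hne
    have hab : (md.phi y (md.phi y i) : ℕ) = (i : ℕ) := by
      have n1 : (md.phi y i : ℕ) ≠ (i : ℕ) := fun e => hne (Fin.ext e)
      have n2 : (md.phi y (md.phi y i) : ℕ) ≠ (md.phi y i : ℕ) := fun e =>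
        hne ((md.phi y).injective (Fin.ext e))
      omega
    rw [Fin.ext hab] at hcyc
    exact hne hcyc

theorem lk_unique {y : Cfsg.Spor.Fi24} (hy : y ∈ commutator Cfsg.Spor.Fi24)
    (hj : Commute y (Fi24Base.ev 9)) (hc : Commute y (Fi24Base.ev 4)) (h3 : y ^ 3 = 1) (h1 : y ≠ 1)
    (hF : ∀ f ∈ commutator Cfsg.Spor.Fi24,
      (∀ x ∈ ([0, 1, 4, 9] : List ℕ), Commute f (Fi24Base.ev x)) → Commute y f) :
    y = Fi24Base.ev 0 * Fi24Base.ev 1 ∨ y = Fi24Base.ev 1 * Fi24Base.ev 0 := by
  have hsm := small_check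
  simp only [Bool.and_eq_true, List.all_eq_true, List.any_eq_true, Bool.or_eq_true,
    List.contains_iff_mem, beq_iff_eq] at hsm
  obtain ⟨⟨⟨⟨⟨⟨⟨⟨⟨⟨-, hc4⟩, hsix⟩, htri⟩, hpat⟩, e0⟩, e1⟩, e2⟩, -⟩, hlk3⟩, -⟩ := hsm
  -- the even part of the centraliser gives the transpositions
  have hcomm : ∀ v ∈ commWords, md.okW v = true ∧ Commute y (wordTr v) ∧
      md.phi (wordTr v) md.o = md.o ∧ md.phi (md.ev 1) (pt v) = pt v := by
    intro v hv
    have h := List.all_eq_true.1 comm_check v hv
    simp only [commOK, Bool.and_eq_true, force_eq, List.all_eq_true] at h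
    obtain ⟨hok, hx⟩ := h
    have hfix : ∀ x ∈ ([0, 1, 4, 9] : List ℕ), md.phi (md.ev x) (pt v) = pt v := by
      intro x hxm
      obtain ⟨hxok, -⟩ := hc4 x hxm
      apply Fin.ext
      have hp := md.phi_at hxok (pt v)
      simp only [Model.val, evW_cons, evW_nil, mul_one] at hp
      rw [hp, pt_val hok, md_pAt]
      exact Nat.eq_of_beq_eq_true (hx x hxm)
    have hT : ∀ x ∈ ([0, 1, 4, 9] : List ℕ), Commute (wordTr v) (md.ev x) :=
      fun x hxm => (md.comm_conj (hfix x hxm)).symm
    refine ⟨hok, ?_, fix_of_commute_zEl (hT 0 (by decide)), hfix 1 (by decide)⟩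
    have h4 : ∀ x ∈ ([0, 1, 4, 9] : List ℕ), Commute (md.ev 4) (md.ev x) := by
      intro x hxm
      obtain ⟨hxok, hxf⟩ := hc4 x hxm
      refine (gp.comm (by rw [md_eps]; norm_num) ?_).symm
      apply Fin.ext
      have hp := md.phi_at hxok (pt (genPtWord 4))
      simp only [Model.val, evW_cons, evW_nil, mul_one] at hp
      show (md.phi (md.ev x) (pt (genPtWord 4)) : ℕ) = (pt (genPtWord 4) : ℕ)
      rw [hp, pt_val (letter_okW (by norm_num)), md_pAt]
      exact Nat.eq_of_beq_eq_true hxf
    have hs : sgn (wordTr v * md.ev 4) = 1 := by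
      rw [letter_tr (show 4 < 12 by norm_num)]
      simp only [map_mul, map_inv, mul_inv_cancel_comm, sgn_zEl]
      decide
    have hc' : Commute y (md.ev 4) := hc
    have hf := hF _ (mem_comm_iff.2 hs) fun x hxm => (hT x hxm).mul_left (h4 x hxm)
    have := hf.mul_right hc'.inv_right
    rwa [mul_inv_cancel_right] at this
  have hyfix : ∀ v ∈ commWords, md.phi y (pt v) = pt v := fun v hv =>
    fix_of_commute_tr (hcomm v hv).2.1
  -- the three points
  have ht := triangle_check
  simp only [Bool.and_eq_true, List.all_eq_true] at ht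
  have hX : ∀ i : Pt, (i : ℕ) ≤ 2 → (md.phi y i : ℕ) ≤ 2 := by
    intro i hi
    have hb : (cutSet (ones rep.N) trianglePat).testBit (i : ℕ) = true := ht.2 _ (by
      simp only [List.mem_cons, List.not_mem_nil, or_false]; omega)
    have := cutSet_invariant (y := y) (fun j _ => by rw [testBit_ones]; exact decide_eq_true (md.phi y j).2)
      (fun e he => ⟨(hcomm _ (htri e he)).1, hyfix _ (htri e he)⟩) i hb
    have hm := ptsSet_spec (subOn_spec ht.1 _ this)
    simp only [List.mem_cons, List.not_mem_nil, or_false] at hm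
    omega
  -- a suitable multiple fixes the three points
  set u : Cfsg.Spor.Fi24 := md.val [0, 1] with hu
  have huv : u = Fi24Base.ev 0 * Fi24Base.ev 1 := by
    rw [hu]; simp only [Model.val, evW_cons, evW_nil, mul_one]; rfl
  have hu3 : u ^ 3 = 1 := trivOK_spec hlk3
  have hok01 : md.okW [0, 1] = true := by
    rw [md.okW_spec, md_eps]; intro x hx
    simp only [List.mem_cons, List.not_mem_nil, or_false] at hx
    omega
  have hN : 2 < md.R.N := by decide +kernel
  let q0 : Pt := ⟨0, by omega⟩
  let q1 : Pt := ⟨1, by omega⟩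
  let q2 : Pt := ⟨2, hN⟩
  have u0 : md.phi u q0 = q2 := Fin.ext (by
    rw [md.phi_at hok01, md_pAt]; show fAt [0, 1] 0 = 2; exact Nat.eq_of_beq_eq_true e0)
  have u1 : md.phi u q1 = q0 := Fin.ext (by
    rw [md.phi_at hok01, md_pAt]; show fAt [0, 1] 1 = 0; exact Nat.eq_of_beq_eq_true e1)
  have u2 : md.phi u q2 = q1 := Fin.ext (by
    rw [md.phi_at hok01, md_pAt]; show fAt [0, 1] 2 = 1; exact Nat.eq_of_beq_eq_true e2)
  have hval : ∀ i : Pt, (i : ℕ) ≤ 2 → i = q0 ∨ i = q1 ∨ i = q2 := by
    intro i hi
    rcases (by omega : (i : ℕ) = 0 ∨ (i : ℕ) = 1 ∨ (i : ℕ) = 2) with h | h | h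
    · exact Or.inl (Fin.ext h)
    · exact Or.inr (Or.inl (Fin.ext h))
    · exact Or.inr (Or.inr (Fin.ext h))
  obtain ⟨n, hn⟩ : ∃ n : ℕ, md.phi (u ^ n * y) q0 = q0 ∧ md.phi (u ^ n * y) q2 = q2 := by
    have h := congrArg (fun g => md.phi g q0) h3
    simp only [pow_three, map_mul, Equiv.Perm.mul_apply, map_one, Equiv.Perm.one_apply] at h
    have h' := congrArg (fun g => md.phi g q2) h3
    simp only [pow_three, map_mul, Equiv.Perm.mul_apply, map_one, Equiv.Perm.one_apply] at h'
    have inj := (md.phi y).injective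
    have n02 : q0 ≠ q2 := fun e => absurd (congrArg Fin.val e) (by simp [q0, q1, q2])
    have n01 : q0 ≠ q1 := fun e => absurd (congrArg Fin.val e) (by simp [q0, q1, q2])
    have n12 : q1 ≠ q2 := fun e => absurd (congrArg Fin.val e) (by simp [q0, q1, q2])
    rcases hval _ (hX q0 (by norm_num [q0])) with a | a | a <;>
      rcases hval _ (hX q2 (by norm_num [q2])) with c | c | c <;>
      rcases hval _ (hX q1 (by norm_num [q1])) with b | b | b
    all_goals first
      | exact absurd (inj (a.trans c.symm)) n02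
      | exact absurd (inj (a.trans b.symm)) n01
      | exact absurd (inj (b.trans c.symm)) n12
      | (simp only [a, b, c] at h h'
         first
           | exact absurd h n01
           | exact absurd h n02
           | exact absurd h n12
           | exact absurd h.symm n01
           | exact absurd h.symm n02
           | exact absurd h.symm n12
           | exact absurd h' n01
           | exact absurd h' n02
           | exact absurd h' n12
           | exact absurd h'.symm n01
           | exact absurd h'.symm n02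
           | exact absurd h'.symm n12)
      | (refine ⟨0, ?_, ?_⟩ <;> simp only [pow_zero, one_mul, a, c] <;> done)
      | (refine ⟨1, ?_, ?_⟩ <;> simp only [pow_one, map_mul, Equiv.Perm.mul_apply, a, c, u0, u1, u2] <;> done)
      | (refine ⟨2, ?_, ?_⟩ <;> simp only [pow_two, map_mul, Equiv.Perm.mul_apply, a, c, u0, u1, u2] <;> done)
  set w := u ^ n * y with hw
  have ho : md.o = q0 := Fin.ext rfl
  have hwo : md.phi w md.o = md.o := by rw [ho]; exact hn.1
  have hk : pt (genPtWord 1) = q2 := Fin.ext (by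
    rw [pt_val (letter_okW (by norm_num))]; exact Nat.eq_of_beq_eq_true e0)
  have hwl : Commute w zEl := mem_stab hwo
  have hwk : Commute w (md.ev 1) := gp.comm (by rw [md_eps]; norm_num) (by
    show md.phi w (pt (genPtWord 1)) = pt (genPtWord 1)
    rw [hk]; exact hn.2)
  have hwu : Commute w u := by rw [huv]; exact hwl.mul_right hwk
  have hyu : Commute y u := by
    have := (((Commute.refl u).pow_left n).inv_left).mul_left hwu
    rwa [hw, inv_mul_cancel_left] at this
  have hw3 : w ^ 3 = 1 := by
    rw [hw, (hyu.symm.pow_left n).mul_pow, h3, mul_one, ← pow_mul, Nat.mul_comm, pow_mul, hu3, one_pow]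
  have hwfix : ∀ v ∈ commWords, md.phi w (pt v) = pt v := by
    intro v hv
    obtain ⟨hok, hcy, hTo, hk1⟩ := hcomm v hv
    have h0 : Commute u (wordTr v) := by
      rw [huv]
      exact Commute.mul_left (mem_stab hTo).symm (md.comm_conj hk1)
    exact fix_of_commute_tr ((h0.pow_left n).mul_left hcy)
  have hpts : ∀ x, 2 ≤ x → x < 12 → md.phi w (pt (genPtWord x)) = pt (genPtWord x) := by
    intro x h2 h12
    rcases pat_cover x h2 h12 with hx | ⟨p, hp, rfl⟩
    · obtain ⟨v, hv, he⟩ := hsix x hx
      have : pt v = pt (genPtWord x) := Fin.ext (by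
        rw [pt_val (hcomm v hv).1, pt_val (letter_okW h12)]; exact Nat.eq_of_beq_eq_true he)
      rw [← this]; exact hwfix v hv
    · have hok := List.all_eq_true.1 pat_check p hp
      simp only [patOK, Bool.and_eq_true, Nat.ble_eq] at hok
      obtain ⟨⟨hsub, hlen⟩, hmem⟩ := hok
      have hes : ∀ e ∈ p.2.1, md.okW e.1 = true ∧ md.phi w (pt e.1) = pt e.1 := by
        intro e he
        rcases (hpat p hp).2 e he with h | ⟨h, h'⟩
        · exact ⟨(hcomm _ h).1, hwfix _ h⟩
        · refine ⟨h, ?_⟩
          rw [show pt e.1 = q2 from Fin.ext (by rw [pt_val h]; exact Nat.eq_of_beq_eq_true h')]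
          exact hn.2
      have hinv := cutSet_invariant (y := w) (S := md.N0)
        (fun j hj' => by rw [md.N0_stab hwo]; exact hj') hes
      have hb : (cutSet md.N0 p.2.1).testBit (pt (genPtWord p.1) : ℕ) = true := by
        rw [pt_val (letter_okW h12)]; exact hmem
      exact fix_of_two hw3 hlen (ptsSet_spec (subOn_spec hsub _ hb))
        (ptsSet_spec (subOn_spec hsub _ (hinv _ hb)))
        (ptsSet_spec (subOn_spec hsub _ (hinv _ (hinv _ hb))))
  have hsw : sgn w = 1 := by
    rw [hw, map_mul, mem_comm_iff.1 hy, mul_one, map_pow,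
      show sgn u = 1 from sgn_even (by rw [hok01]; rfl), one_pow]
  have hw1 : w = 1 := eq_one_of_even (fix_trivial hwo hpts) hsw
  have hy' : y = (u ^ n)⁻¹ := eq_inv_of_mul_eq_one_right hw1
  have hinv : u⁻¹ = Fi24Base.ev 1 * Fi24Base.ev 0 := by
    rw [huv, mul_inv_rev,
      inv_eq_of_mul_eq_one_left (show Fi24Base.ev 1 * Fi24Base.ev 1 = 1 from md.sq 1 (by rw [md_eps]; norm_num)),
      inv_eq_of_mul_eq_one_left (show Fi24Base.ev 0 * Fi24Base.ev 0 = 1 from md.sq 0 (by rw [md_eps]; norm_num))]
  have hred : u ^ n = u ^ (n % 3) := by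
    conv_lhs => rw [← Nat.div_add_mod n 3, pow_add, pow_mul, hu3, one_pow, one_mul]
  rw [hred] at hy'
  rcases (by omega : n % 3 = 0 ∨ n % 3 = 1 ∨ n % 3 = 2) with e | e | e <;> rw [e] at hy'
  · exact absurd (by rw [hy', pow_zero, inv_one]) h1
  · right; rw [hy', pow_one, hinv]
  · left
    rw [hy', ← huv]
    exact inv_eq_of_mul_eq_one_right (by rw [← pow_succ]; exact hu3)

end CfsgLib.FischerTwoFour.Recog
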