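import Cfsg.Agent.Lib.FischerTwoFour.Recog.CritTools

/-!
Elements interchanging the first letter of the presented Fischer group on 24 letters with two others.
-/
set_option autoImplicit false
set_option maxRecDepth 20000
set_option Elab.async false

namespace CfsgLib.FischerTwoFour.Recog

open CfsgLib.Presented
open CfsgLib.Fi24Out

/-- Words interchanging the points of two letters. -/
def swapWord (s : ℕ) : List ℕ :=
  cond (Nat.beq s 4) [1, 0, 2, 1, 3, 2, 4, 3, 1, 2, 0, 1]
    [1, 0, 2, 1, 3, 2, 4, 3, 5, 4, 6, 5, 7, 6, 8, 7, 9, 8, 6, 7, 5, 6, 4, 5, 3, 4, 2, 3, 1, 2, 0, 1]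

theorem swap_check : (([4, 9] : List ℕ).all fun s => md.okW (swapWord s) &&
    Nat.beq (fAt (swapWord s) 0) (fAt (genPtWord s) 0) &&
    Nat.beq (fAt (swapWord s ++ genPtWord s) 0) 0) = true := by decide +kernel

theorem exists_swap {s : ℕ} (hs : s = 4 ∨ s = 9) : ∃ κ : Cfsg.Spor.Fi24,
    κ * Fi24Base.ev 0 * κ⁻¹ = Fi24Base.ev s ∧ κ * Fi24Base.ev s * κ⁻¹ = Fi24Base.ev 0 := by
  have hmem : s ∈ ([4, 9] : List ℕ) := by rcases hs with rfl | rfl <;> decide
  have hs12 : s < 12 := by omega
  have h := List.all_eq_true.1 swap_check s hmem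
  simp only [Bool.and_eq_true] at h
  obtain ⟨⟨hok, h1⟩, h2⟩ := h
  have hgw := letter_okW hs12
  have e1 : md.phi (md.val (swapWord s)) md.o = md.phi (md.val (genPtWord s)) md.o := by
    apply Fin.ext
    rw [md.phi_at hok, md.phi_at hgw]
    exact Nat.eq_of_beq_eq_true h1
  have e2 : md.phi (md.val (swapWord s) * md.val (genPtWord s)) md.o = md.o := by
    apply Fin.ext
    rw [← md.val_append, md.phi_at (by rw [md.okW_append, hok, hgw]; rfl)]
    exact Nat.eq_of_beq_eq_true h2
  refine ⟨md.val (swapWord s), ?_, ?_⟩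
  · show md.val (swapWord s) * zEl * (md.val (swapWord s))⁻¹ = md.ev s
    rw [letter_tr hs12]
    exact conj_tr_of_point e1
  · show md.val (swapWord s) * md.ev s * (md.val (swapWord s))⁻¹ = zEl
    rw [letter_tr hs12]
    have h3 := conj_tr_of_point (g := md.val (swapWord s) * md.val (genPtWord s)) (h := 1)
      (by rw [e2, map_one, Equiv.Perm.one_apply])
    rw [inv_one, mul_one, one_mul] at h3
    refine (?_ : _ = _).trans h3
    rw [wordTr]
    group

end CfsgLib.FischerTwoFour.Recog
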