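import Cfsg.Agent.Lib.Fi24Out.Tools
import Cfsg.Agent.Lib.ThreeTrans.Inst.FiTwentyFour

/-!
Criteria in the presented Fischer group on 24 letters: the dictionary between points and transpositions in
the form used by the recognition certificates.
-/
set_option autoImplicit false
set_option maxRecDepth 20000
set_option Elab.async false

namespace CfsgLib.FischerTwoFour.Recog

open CfsgLib.Presented CfsgLib.Presented.Vec
open CfsgLib.Fi24Out

/-- The transposition of the point of a word. -/
noncomputable abbrev wordTr (v : List ℕ) : Cfsg.Spor.Fi24 := md.val v * zEl * (md.val v)⁻¹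

theorem fix_of_commute_zEl {g : Cfsg.Spor.Fi24} (h : Commute g zEl) : md.phi g md.o = md.o := by
  have h' : Commute g CfsgLib.ThreeTrans.Inst.FiTwentyFour.a := by
    rw [CfsgLib.ThreeTrans.Inst.FiTwentyFour.a]
    rw [evW_cons, evW_nil, mul_one]
    exact h
  exact CfsgLib.ThreeTrans.Inst.FiTwentyFour.fix g h'

theorem fix_of_commute_tr {y g : Cfsg.Spor.Fi24} (h : Commute y (g * zEl * g⁻¹)) :
    md.phi y (md.phi g md.o) = md.phi g md.o := by
  have h1 : Commute (g⁻¹ * y * g) zEl := by
    show g⁻¹ * y * g * zEl = zEl * (g⁻¹ * y * g)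
    calc g⁻¹ * y * g * zEl = g⁻¹ * (y * (g * zEl * g⁻¹)) * g := by group
      _ = g⁻¹ * ((g * zEl * g⁻¹) * y) * g := by rw [h.eq]
      _ = zEl * (g⁻¹ * y * g) := by group
  have h2 := fix_of_commute_zEl h1
  rw [map_mul, map_mul, Equiv.Perm.mul_apply, Equiv.Perm.mul_apply, map_inv, Equiv.Perm.inv_def,
    Equiv.symm_apply_eq] at h2
  exact h2

theorem conj_tr_of_point {g h : Cfsg.Spor.Fi24} (e : md.phi g md.o = md.phi h md.o) :
    g * zEl * g⁻¹ = h * zEl * h⁻¹ := by
  have hfix : md.phi (h⁻¹ * g) md.o = md.o := by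
    rw [map_mul, Equiv.Perm.mul_apply, e, ← Equiv.Perm.mul_apply, ← map_mul, inv_mul_cancel, map_one,
      Equiv.Perm.one_apply]
  calc g * zEl * g⁻¹ = h * ((h⁻¹ * g) * zEl) * g⁻¹ := by group
    _ = h * (zEl * (h⁻¹ * g)) * g⁻¹ := by rw [mem_stab hfix]
    _ = h * zEl * h⁻¹ := by group

/-- A letter is the transposition of its point. -/
theorem letter_tr {x : ℕ} (hx : x < 12) : md.ev x = wordTr (genPtWord x) := gen_conj x hx

theorem letter_okW {x : ℕ} (hx : x < 12) : md.okW (genPtWord x) = true :=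
  (gp.ok x (by rw [md_eps]; exact hx)).1

end CfsgLib.FischerTwoFour.Recog
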