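import Cfsg.Agent.Lib.FischerTwoFour.Recog.Cover
import Cfsg.Agent.Lib.ThreeTrans.FiCent.Fuse
import Cfsg.Agent.Lib.ThreeTrans.FiCent.Extend

/-!
An automorphism of the centraliser of two commuting transpositions in the Fischer group on 23 letters
fixing both extends to the centraliser of the first.
-/

set_option autoImplicit false
set_option maxRecDepth 8000

namespace CfsgLib.FischerTwoFour.Recog

open Subgroup CfsgLib.Presented
open Fi23Transpositions (z)
open Fi23Simple (toFi22 toFi22_eq_one psi_zw zw_mem zw_ne a_mem)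
open CfsgLib.ThreeTrans.FiCent (X H0 aH)

section General

variable {G : Type*} [Group G]

theorem centralizer_pair_map (c a b : G) :
    (centralizer ({a, b} : Set G)).map (MulAut.conj c).toMonoidHom =
      centralizer ({c * a * c⁻¹, c * b * c⁻¹} : Set G) := by
  ext x
  simp only [mem_map_equiv, MulAut.conj_symm_apply, mem_centralizer_iff, Set.mem_insert_iff, Set.mem_singleton_iff,
    forall_eq_or_imp, forall_eq]
  have key : ∀ u : G, u * (c⁻¹ * x * c) = c⁻¹ * x * c * u ↔ c * u * c⁻¹ * x = x * (c * u * c⁻¹) := by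
    intro u
    constructor
    · intro h
      calc c * u * c⁻¹ * x = c * (u * (c⁻¹ * x * c)) * c⁻¹ := by group
        _ = x * (c * u * c⁻¹) := by rw [h]; group
    · intro h
      calc u * (c⁻¹ * x * c) = c⁻¹ * (c * u * c⁻¹ * x) * c := by group
        _ = c⁻¹ * x * c * u := by rw [h]; group
  exact and_congr (key a) (key b)

theorem centralizer_map (c a : G) :
    (centralizer ({a} : Set G)).map (MulAut.conj c).toMonoidHom = centralizer ({c * a * c⁻¹} : Set G) := by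
  simpa using centralizer_pair_map c a a

/-- Conjugation between two subgroups. -/
noncomputable def conjEquiv (c : G) {A B : Subgroup G} (h : A.map (MulAut.conj c).toMonoidHom = B) : A ≃* B :=
  (A.equivMapOfInjective _ (MulAut.conj c).injective).trans (MulEquiv.subgroupCongr h)

theorem coe_conjEquiv (c : G) {A B : Subgroup G} (h : A.map (MulAut.conj c).toMonoidHom = B) (x : A) :
    (conjEquiv c h x : G) = c * x * c⁻¹ := rfl

end General

/-- The standard transposition commuting with the first. -/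
noncomputable abbrev s0 : Cfsg.Spor.Fi23 := evW Fi23Cosets.ev [0]

theorem s0_conj : s0 ∈ conjugatesOf z :=
  isConj_iff.2 ⟨evW Fi23Cosets.ev Fi23Simple.conjWord, by rw [s0, evW_cons, evW_nil, mul_one, Fi23Simple.conj_eq]⟩

theorem s0_comm : Commute z s0 := (Fi23Transpositions.z_comm a_mem).symm

theorem toFi22_s0 : toFi22 ⟨s0, a_mem⟩ = ThreeTrans.Inst.FiTwentyTwo.a := by
  apply Fi22Order.phi_injective
  have h : Fi22UCosets.phi (toFi22 ⟨s0, a_mem⟩) = Fi23Simple.psi ⟨s0, a_mem⟩ :=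
    MonoidHom.apply_ofInjective_symm Fi22Order.phi_injective _
  rw [h, ThreeTrans.Inst.FiTwentyTwo.a, ThreeTrans.Inst.FiTwentyTwo.phi_evW (w := [0]) (by decide)]
  exact Fi23Simple.hom_small (g := ⟨s0, a_mem⟩) (w := [0]) (by decide +kernel)
    (congrArg (evW Fi23Cosets.ev) (show [0] = _ by decide +kernel)) (by decide +kernel)

theorem z_mem : z ∈ Fi23Cosets.H := zw_mem

theorem toFi22_z : toFi22 ⟨z, zw_mem⟩ = 1 := toFi22_eq_one.2 psi_zw

theorem s0_ne : z ≠ s0 := fun h => by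
  have h1 := toFi22_s0
  rw [show (⟨s0, a_mem⟩ : Fi23Cosets.H) = ⟨z, zw_mem⟩ from Subtype.ext h.symm, toFi22_z] at h1
  exact ThreeTrans.Inst.FiTwentyTwo.a_ne h1.symm

theorem ker_cases {g : Fi23Cosets.H} (hg : toFi22 g = 1) : g = 1 ∨ g = ⟨z, zw_mem⟩ := by
  obtain ⟨a, b, hab, huniv⟩ := Nat.card_eq_two_iff.1 Fi23Simple.card_ker
  have hm : ∀ q : toFi22.ker, q = a ∨ q = b := fun q => by simpa [← huniv] using Set.mem_univ q
  have hne : (⟨⟨z, zw_mem⟩, toFi22_z⟩ : toFi22.ker) ≠ 1 := fun e =>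
    zw_ne (congrArg (fun q : toFi22.ker => ((q : Fi23Cosets.H) : Cfsg.Spor.Fi23)) e)
  rcases hm ⟨g, hg⟩ with h1 | h1 <;> rcases hm 1 with h2 | h2 <;>
    rcases hm ⟨⟨z, zw_mem⟩, toFi22_z⟩ with h3 | h3 <;>
    first
      | exact Or.inl (congrArg Subtype.val (h1.trans h2.symm))
      | exact Or.inr (congrArg Subtype.val (h1.trans h3.symm))
      | exact absurd (h3.trans h2.symm) hne

/-- The representative pair. -/
noncomputable abbrev tA : Cfsg.Spor.Fi23 :=
  evW Fi23Cosets.ev Fi23Transpositions.rA * z * (evW Fi23Cosets.ev Fi23Transpositions.rA)⁻¹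

/-- One orbit of commuting pairs. -/
theorem exists_pair_conj {s : Cfsg.Spor.Fi23} (hs : s ∈ conjugatesOf z) (hc : Commute z s) (hne : z ≠ s) :
    ∃ h ∈ Fi23Cosets.H, h * tA * h⁻¹ = s := by
  obtain ⟨g, rfl⟩ := isConj_iff.1 (show IsConj z _ from hs)
  obtain ⟨h, hh, r, hr, h', hh', rfl⟩ := Fi23Transpositions.double_cosets g
  obtain ⟨e1, e2⟩ := Fi23Transpositions.conj_z_of_double (r := r) hh hh'
  rcases hr with rfl | rfl | rfl
  · exfalso
    refine hne ?_
    rw [e1, one_mul, inv_one, mul_one, Fi23Transpositions.z_comm hh, mul_inv_cancel_right]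
  · exfalso
    set u := evW Fi23Cosets.ev (Fi23Transpositions.uw Fi23Transpositions.rB) with hu
    have hu' : z * (h * evW Fi23Cosets.ev Fi23Transpositions.rB * h' * z *
        (h * evW Fi23Cosets.ev Fi23Transpositions.rB * h')⁻¹) = h * u * h⁻¹ := by
      rw [e2, hu, Fi23Transpositions.evW_uw (by decide +kernel)]
    set s := h * evW Fi23Cosets.ev Fi23Transpositions.rB * h' * z *
        (h * evW Fi23Cosets.ev Fi23Transpositions.rB * h')⁻¹ with hs'
    have hs2 : s * s = 1 := by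
      rw [hs', conj_mul, Fi23Transpositions.z_sq, mul_one, mul_inv_cancel]
    have hsq : (h * u * h⁻¹) * (h * u * h⁻¹) = 1 := by
      rw [← hu', mul_assoc z, ← mul_assoc s, ← hc.eq, mul_assoc z s, hs2, mul_one, Fi23Transpositions.z_sq]
    have hu2 : u * u = 1 := by
      rw [conj_mul] at hsq
      exact conj_eq_one_iff.1 hsq
    have hu3 := Fi23Transpositions.uB_pow
    rw [← hu, pow_succ, pow_two, hu2, one_mul] at hu3
    exact Fi23Transpositions.uB_ne hu3
  · exact ⟨h, hh, e1.symm⟩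

theorem le_stab {s : Cfsg.Spor.Fi23} : centralizer ({z, s} : Set Cfsg.Spor.Fi23) ≤ Fi23Cosets.H := by
  rw [← Fi23Transpositions.centralizer_z]
  exact centralizer_le (by simp)

theorem card_pair_tA : 3510 * Nat.card (centralizer ({z, tA} : Set Cfsg.Spor.Fi23)) = Nat.card Fi23Cosets.H := by
  have := finite_stab
  set r := evW Fi23Cosets.ev Fi23Transpositions.rA with hr
  have hS : (MulAction.stabilizer Fi23Cosets.H Fi23Cosets.orbitA).map Fi23Cosets.H.subtype =
      centralizer ({z, tA} : Set Cfsg.Spor.Fi23) := by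
    have key : ∀ x : Fi23Cosets.H, x ∈ MulAction.stabilizer Fi23Cosets.H Fi23Cosets.orbitA ↔
        (x : Cfsg.Spor.Fi23) * tA = tA * x := by
      intro x
      rw [MulAction.mem_stabilizer_iff, Fi23Transpositions.orbitA_eq]
      show ((↑((x : Cfsg.Spor.Fi23) * r) : Cfsg.Spor.Fi23 ⧸ Fi23Cosets.H) = ↑r) ↔ _
      rw [QuotientGroup.eq, ← SetLike.ext_iff.1 Fi23Transpositions.centralizer_z, mem_centralizer_singleton_iff]
      constructor
      · intro h
        calc (x : Cfsg.Spor.Fi23) * (r * z * r⁻¹)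
            = (x : Cfsg.Spor.Fi23) * r * (z * (((x : Cfsg.Spor.Fi23) * r)⁻¹ * r)) * r⁻¹ * x := by group
          _ = (x : Cfsg.Spor.Fi23) * r * ((((x : Cfsg.Spor.Fi23) * r)⁻¹ * r) * z) * r⁻¹ * x := by rw [h]
          _ = r * z * r⁻¹ * x := by group
      · intro h
        calc ((x : Cfsg.Spor.Fi23) * r)⁻¹ * r * z
            = r⁻¹ * (x : Cfsg.Spor.Fi23)⁻¹ * ((r * z * r⁻¹) * x) * (x : Cfsg.Spor.Fi23)⁻¹ * r := by group
          _ = r⁻¹ * (x : Cfsg.Spor.Fi23)⁻¹ * ((x : Cfsg.Spor.Fi23) * (r * z * r⁻¹)) * (x : Cfsg.Spor.Fi23)⁻¹ * r := by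
            rw [← h]
          _ = z * (((x : Cfsg.Spor.Fi23) * r)⁻¹ * r) := by group
    ext x
    constructor
    · rintro ⟨y, hy, rfl⟩
      rw [mem_centralizer_iff]
      rintro m (rfl | rfl)
      · exact (Fi23Transpositions.z_comm y.2).symm
      · exact ((key y).1 hy).symm
    · intro hx
      exact ⟨⟨x, le_stab hx⟩, (key _).2 (mem_centralizer_iff.1 hx tA (by simp)).symm, rfl⟩
  rw [← hS, card_map_of_injective (subtype_injective _), ← Fi23Cosets.orbitA_ncard, ← Nat.card_coe_set_eq,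
    ← Nat.card_prod]
  exact Nat.card_congr (MulAction.orbitProdStabilizerEquivGroup _ _)

theorem card_pair_s0 : Nat.card (centralizer ({z, s0} : Set Cfsg.Spor.Fi23)) = 2 * Nat.card H0 := by
  obtain ⟨h, hh, e⟩ := exists_pair_conj s0_conj s0_comm s0_ne
  have hz : h * z * h⁻¹ = z := by rw [Fi23Transpositions.z_comm hh, mul_inv_cancel_right]
  have h1 := centralizer_pair_map h z tA
  rw [hz, e] at h1
  rw [← h1, card_map_of_injective (MulAut.conj h).injective, ThreeTrans.FiCent.card_H0]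
  have h2 := card_pair_tA
  rw [Fi23Order.card_H] at h2
  omega

/-- The projection of the centraliser of the standard pair. -/
noncomputable abbrev pairHom : ↥(centralizer ({z, s0} : Set Cfsg.Spor.Fi23)) →* X :=
  toFi22.comp (inclusion le_stab)

theorem pairHom_mem (x : ↥(centralizer ({z, s0} : Set Cfsg.Spor.Fi23))) : pairHom x ∈ H0 := by
  rw [mem_centralizer_singleton_iff, ← toFi22_s0]
  show toFi22 _ * toFi22 _ = _ * toFi22 _
  rw [← map_mul, ← map_mul]
  exact congrArg toFi22 (Subtype.ext (mem_centralizer_iff.1 x.2 s0 (by simp)).symm)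

theorem pairHom_surjective {x : X} (hx : x ∈ H0) : ∃ y, pairHom y = x := by
  have := finite_stab
  set C := centralizer ({z, s0} : Set Cfsg.Spor.Fi23)
  have hle : C.subgroupOf Fi23Cosets.H ≤ H0.comap toFi22 := fun g hg => by
    have := pairHom_mem ⟨g, hg⟩
    exact this
  have hc : Nat.card (H0.comap toFi22) ≤ Nat.card (C.subgroupOf Fi23Cosets.H) := by
    rw [Nat.card_congr (subgroupOfEquivOfLe (le_stab (s := s0))).toEquiv, card_pair_s0]
    have h1 := (H0.comap toFi22).card_mul_index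
    rw [index_comap_of_surjective _ Fi23Simple.toFi22_surjective] at h1
    have h2 := H0.card_mul_index
    rw [Fi22Order.card_eq] at h2
    rw [Fi23Order.card_H] at h1
    rw [ThreeTrans.FiCent.card_H0] at h2 ⊢
    have h3 : H0.index = 3510 := by omega
    rw [h3] at h1
    omega
  have he := eq_of_le_of_card_ge hle hc
  obtain ⟨g, rfl⟩ := Fi23Simple.toFi22_surjective x
  have hg : g ∈ C.subgroupOf Fi23Cosets.H := by rw [he]; exact hx
  exact ⟨⟨g, hg⟩, rfl⟩

theorem commutator_H0 : commutator ↥H0 = ⊤ := by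
  obtain ⟨F, _, _, hF⟩ : ∃ (K : Type) (_ : Field K) (_ : Fintype K), Fintype.card K = 2 ^ 2 :=
    let _ : Fintype (GaloisField 2 2) := Fintype.ofFinite _
    ⟨GaloisField 2 2, inferInstance, inferInstance, by
      rw [← Nat.card_eq_fintype_card, GaloisField.card 2 2 (by norm_num)]⟩
  obtain ⟨w, -, -, hw⟩ := ThreeTrans.USix.exists_omega hF
  have h : commutator Fi22UCosets.H = ⊤ := by
    refine ThreeTrans.FiCent.perfect_of_stem (σ := Schur.MultiplierU62.toPSU hF hw)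
      ⟨Schur.MultiplierU62.toPSU_surjective hF hw, Schur.MultiplierU62.ker_le_center hF hw, fun x hx => ?_⟩
      (ThreeTrans.FiCent.psu_perfect hF hw)
    rcases Schur.MultiplierU62.toPSU_ker_cases hF hw hx with rfl | rfl
    · exact one_mem _
    · exact Schur.MultiplierU62.comm_two ▸ commutator_mem_commutator (mem_top _) (mem_top _)
  let e := (MulEquiv.subgroupCongr ThreeTrans.FiCent.H0_eq).symm
  rw [← SchurCover.map_commutator_eq e.toMonoidHom e.surjective, h, map_top_of_surjective _ e.surjective]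

theorem fused_X : ThreeTrans.FiCent.Fused (ThreeTrans.Inst.FiTwentyTwo.a) := by
  have := ThreeTrans.FiCent.finite_X
  have : Fact (Nat.Prime 2) := ⟨Nat.prime_two⟩
  refine ThreeTrans.FiCent.fused_of_nwc
    (orderOf_eq_prime (by rw [pow_two]; exact ThreeTrans.Inst.FiTwentyTwo.a_sq) ThreeTrans.Inst.FiTwentyTwo.a_ne) ?_
  obtain ⟨c, hc⟩ := ThreeTrans.Inst.FiTwentyTwo.P.cls _ (ThreeTrans.FiCent.T_mem 0) _ (ThreeTrans.FiCent.T_mem 154)
  rw [ThreeTrans.FiCent.T_zero] at hc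
  refine ⟨c, hc ▸ ThreeTrans.FiCent.T154_mem_H0, fun e => ?_⟩
  have h := ThreeTrans.FiCent.T_inj (p := 154) (q := 0) (by decide) (by decide)
    ((hc.symm.trans e).trans ThreeTrans.FiCent.T_zero.symm)
  exact absurd h (by decide)

/-- The centraliser of the standard pair. -/
noncomputable abbrev C0 : Subgroup Cfsg.Spor.Fi23 := centralizer ({z, s0} : Set Cfsg.Spor.Fi23)

theorem extend_aut_std (β : MulAut ↥C0)
    (hβz : ∀ h, (β ⟨z, h⟩ : Cfsg.Spor.Fi23) = z) (hβs : ∀ h, (β ⟨s0, h⟩ : Cfsg.Spor.Fi23) = s0) :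
    ∃ γ : MulAut ↥(centralizer ({z} : Set Cfsg.Spor.Fi23)),
      ∀ (x : ↥(centralizer ({z} : Set Cfsg.Spor.Fi23))) (hx : (x : Cfsg.Spor.Fi23) ∈ C0),
        (γ x : Cfsg.Spor.Fi23) = β ⟨x, hx⟩ := by
  classical
  have := finite_stab
  have := ThreeTrans.FiCent.finite_X
  have hzC : z ∈ C0 := mem_centralizer_iff.2 (by
    rintro m (rfl | rfl)
    · rfl
    · exact s0_comm.eq.symm)
  have hsC : s0 ∈ C0 := mem_centralizer_iff.2 (by
    rintro m (rfl | rfl)
    · exact s0_comm.eq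
    · rfl)
  let σ : C0 →* ↥H0 := pairHom.codRestrict H0 pairHom_mem
  have hσ : Function.Surjective σ := fun x => by
    obtain ⟨y, hy⟩ := pairHom_surjective x.2
    exact ⟨y, Subtype.ext hy⟩
  have hσker : ∀ x : C0, σ x = 1 → x = 1 ∨ x = ⟨z, hzC⟩ := fun x hx => by
    rcases ker_cases (g := inclusion le_stab x) (congrArg Subtype.val hx) with h | h
    · exact Or.inl (Subtype.ext (congrArg Subtype.val h :))
    · exact Or.inr (Subtype.ext (congrArg Subtype.val h :))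
  have hβz' : β ⟨z, hzC⟩ = ⟨z, hzC⟩ := Subtype.ext (hβz hzC)
  have hσz : σ ⟨z, hzC⟩ = 1 := Subtype.ext toFi22_z
  have hle : σ.ker ≤ (σ.comp β.toMonoidHom).ker := fun x hx => by
    rw [MonoidHom.mem_ker]
    rcases hσker x hx with rfl | rfl
    · exact map_one _
    · show σ (β ⟨z, hzC⟩) = 1
      rw [hβz', hσz]
  let θ' : ↥H0 →* ↥H0 := σ.liftOfSurjective hσ ⟨σ.comp β.toMonoidHom, hle⟩
  have hθ' : ∀ x, θ' (σ x) = σ (β x) := fun x => MonoidHom.liftOfRightInverse_comp_apply _ _ _ _ x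
  have hθs : Function.Surjective θ' := fun y => by
    obtain ⟨x, rfl⟩ := hσ y
    obtain ⟨x, rfl⟩ := β.surjective x
    exact ⟨σ x, hθ' x⟩
  let θ : ↥H0 ≃* ↥(ThreeTrans.FiCent.Cd ThreeTrans.Inst.FiTwentyTwo.a) :=
    MulEquiv.ofBijective θ' ⟨Finite.injective_iff_surjective.2 hθs, hθs⟩
  have hσs : σ ⟨s0, hsC⟩ = aH := Subtype.ext toFi22_s0
  have hbase : (θ aH : X) = ThreeTrans.Inst.FiTwentyTwo.a := by
    show (θ' aH : X) = _
    rw [← hσs, hθ', show β ⟨s0, hsC⟩ = ⟨s0, hsC⟩ from Subtype.ext (hβs hsC), hσs]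
  obtain ⟨φ, hφ, -, hφθ, -⟩ := ThreeTrans.FiCent.exists_embedding
    (⟨hbase, fused_X θ hbase⟩ : ThreeTrans.FiCent.Link ThreeTrans.Inst.FiTwentyTwo.a θ)
    ThreeTrans.Inst.FiTwentyTwo.a_ne
  let φe : X ≃* X := MulEquiv.ofBijective φ ⟨hφ, Finite.injective_iff_surjective.1 hφ⟩
  -- lift to the stabiliser
  let tz : Fi23Cosets.H := ⟨z, zw_mem⟩
  have htz1 : tz ≠ 1 := fun e => zw_ne (congrArg Subtype.val e)
  have htz : orderOf tz = 2 := by
    rw [← Subgroup.orderOf_coe]; exact Fi23Transpositions.orderOf_z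
  have htc : tz ∈ Subgroup.center Fi23Cosets.H := Fi23Simple.ker_le_center toFi22_z
  have hnorm : (zpowers tz).Normal := ⟨fun x hx g => by
    rwa [mem_center_iff.1 ((zpowers_le.2 htc) hx) g, mul_inv_cancel_right]⟩
  have hker : zpowers tz = toFi22.ker := eq_of_le_of_card_ge (zpowers_le.2 toFi22_z) (by
    rw [Nat.card_zpowers, htz, Fi23Simple.card_ker])
  let e : Fi23Cosets.H ⧸ zpowers tz ≃* X := ((QuotientGroup.quotientMulEquivOfEq hker).trans
    (QuotientGroup.quotientKerEquivOfSurjective toFi22 Fi23Simple.toFi22_surjective)).trans φe.symm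
  obtain ⟨f, hf⟩ := exists_iso_stab htz htc commutator_stab e
  have hf' : ∀ g, toFi22 (f g) = φ (toFi22 g) := fun g => by
    have h := congrArg φe (show φe.symm (toFi22 (f g)) = toFi22 g from hf g)
    rw [MulEquiv.apply_symm_apply] at h
    exact h
  let i : C0 →* Fi23Cosets.H := inclusion le_stab
  let η₁ : C0 →* Fi23Cosets.H := f.toMonoidHom.comp i
  let η₂ : C0 →* Fi23Cosets.H := i.comp β.toMonoidHom
  have hdiff : ∀ x, η₁ x * (η₂ x)⁻¹ ∈ Subgroup.center Fi23Cosets.H := fun x => by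
    refine Fi23Simple.ker_le_center ?_
    rw [MonoidHom.mem_ker, map_mul, map_inv, mul_inv_eq_one]
    show toFi22 (f (i x)) = toFi22 (i (β x))
    rw [hf']
    show φ ((σ x : X)) = (σ (β x) : X)
    rw [hφθ, ← hθ']
    rfl
  let _ : CommGroup (Subgroup.center Fi23Cosets.H) :=
    { (inferInstance : Group (Subgroup.center Fi23Cosets.H)) with
      mul_comm := fun a b => Subtype.ext (mem_center_iff.1 b.2 a) }
  let d : C0 →* Subgroup.center Fi23Cosets.H :=
    MonoidHom.mk' (fun x => ⟨_, hdiff x⟩) fun a b => Subtype.ext (by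
      show η₁ (a * b) * (η₂ (a * b))⁻¹ = η₁ a * (η₂ a)⁻¹ * (η₁ b * (η₂ b)⁻¹)
      rw [map_mul, map_mul, mul_inv_rev, mem_center_iff.1 (hdiff b) (η₁ a * (η₂ a)⁻¹)]
      calc η₁ a * η₁ b * ((η₂ b)⁻¹ * (η₂ a)⁻¹) = η₁ a * (η₁ b * (η₂ b)⁻¹) * (η₂ a)⁻¹ := by group
        _ = _ := by rw [mem_center_iff.1 (hdiff b) (η₁ a)]; group)
  have hdz : d ⟨z, hzC⟩ = 1 := by
    refine Subtype.ext ?_
    show f tz * (i (β ⟨z, hzC⟩))⁻¹ = 1
    rw [hβz', mul_inv_eq_one]
    have h1 : toFi22 (f tz) = 1 := by rw [hf', toFi22_z, map_one]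
    exact (ker_cases h1).resolve_left fun e => htz1 (f.map_eq_one_iff.1 e)
  have hd : ∀ x, d x = 1 := fun x => by
    have h1 : σ x ∈ (commutator C0).map σ := by
      rw [SchurCover.map_commutator_eq σ hσ, commutator_H0]; trivial
    obtain ⟨y, hy, e'⟩ := h1
    have hdy : d y = 1 := Abelianization.commutator_subset_ker d hy
    have hk : σ (y⁻¹ * x) = 1 := by rw [map_mul, map_inv, e', inv_mul_cancel]
    rw [show x = y * (y⁻¹ * x) by group, map_mul, hdy, one_mul]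
    rcases hσker _ hk with h | h
    · rw [h, map_one]
    · rw [h, hdz]
  let E := MulEquiv.subgroupCongr Fi23Transpositions.centralizer_z
  refine ⟨(E.trans f).trans E.symm, fun x hx => ?_⟩
  have h := congrArg Subtype.val (hd ⟨x, hx⟩)
  have h' : η₁ ⟨x, hx⟩ = η₂ ⟨x, hx⟩ := mul_inv_eq_one.1 h
  exact congrArg Subtype.val h'

theorem extend_aut {r s : Cfsg.Spor.Fi23} (hr : r ∈ conjugatesOf z) (hs : s ∈ conjugatesOf z) (hrs : Commute r s)
    (hne : r ≠ s) (β : MulAut ↥(Subgroup.centralizer ({r, s} : Set Cfsg.Spor.Fi23)))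
    (hβr : ∀ h, (β ⟨r, h⟩ : Cfsg.Spor.Fi23) = r) (hβs : ∀ h, (β ⟨s, h⟩ : Cfsg.Spor.Fi23) = s) :
    ∃ γ : MulAut ↥(Subgroup.centralizer ({r} : Set Cfsg.Spor.Fi23)),
      ∀ (x : ↥(Subgroup.centralizer ({r} : Set Cfsg.Spor.Fi23))) (hx : (x : Cfsg.Spor.Fi23) ∈ Subgroup.centralizer ({r, s} : Set Cfsg.Spor.Fi23)),
        (γ x : Cfsg.Spor.Fi23) = β ⟨x, hx⟩ := by
  obtain ⟨g, hg⟩ := isConj_iff.1 (show IsConj z r from hr)
  have hs' : g⁻¹ * s * g ∈ conjugatesOf z := by
    refine IsConj.trans (show IsConj z s from hs) (isConj_iff.2 ⟨g⁻¹, by rw [inv_inv]⟩)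
  have hc' : Commute z (g⁻¹ * s * g) := by
    have := hrs.map (MulAut.conj g⁻¹).toMonoidHom
    simp only [MulEquiv.coe_toMonoidHom, MulAut.conj_apply, inv_inv] at this
    rwa [show g⁻¹ * r * g = z by rw [← hg]; group] at this
  have hne' : z ≠ g⁻¹ * s * g := fun e => hne (by rw [← hg, e]; group)
  obtain ⟨h₁, hh₁, e₁⟩ := exists_pair_conj hs' hc' hne'
  obtain ⟨h₀, hh₀, e₀⟩ := exists_pair_conj s0_conj s0_comm s0_ne
  set c := g * h₁ * h₀⁻¹ with hcdef
  have hcz : c * z * c⁻¹ = r := by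
    have : h₁ * h₀⁻¹ * z = z * (h₁ * h₀⁻¹) := Fi23Transpositions.z_comm (mul_mem hh₁ (inv_mem hh₀))
    calc c * z * c⁻¹ = g * (h₁ * h₀⁻¹ * z) * (h₁ * h₀⁻¹)⁻¹ * g⁻¹ := by rw [hcdef]; group
      _ = g * z * g⁻¹ := by rw [this]; group
      _ = r := hg
  have hcs : c * s0 * c⁻¹ = s := by
    calc c * s0 * c⁻¹ = g * (h₁ * (h₀⁻¹ * s0 * h₀) * h₁⁻¹) * g⁻¹ := by rw [hcdef]; group
      _ = g * (h₁ * tA * h₁⁻¹) * g⁻¹ := by rw [← e₀]; group
      _ = s := by rw [e₁]; group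
  let E₁ := conjEquiv c (show (centralizer ({z} : Set Cfsg.Spor.Fi23)).map (MulAut.conj c).toMonoidHom =
    centralizer ({r} : Set Cfsg.Spor.Fi23) by rw [centralizer_map, hcz])
  let E₂ := conjEquiv c (show (centralizer ({z, s0} : Set Cfsg.Spor.Fi23)).map (MulAut.conj c).toMonoidHom =
    centralizer ({r, s} : Set Cfsg.Spor.Fi23) by rw [centralizer_pair_map, hcz, hcs])
  let β₀ : MulAut ↥(centralizer ({z, s0} : Set Cfsg.Spor.Fi23)) := (E₂.trans β).trans E₂.symm
  have hfix : ∀ (u v : Cfsg.Spor.Fi23) (hu : u ∈ centralizer ({z, s0} : Set Cfsg.Spor.Fi23)),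
      c * u * c⁻¹ = v → (∀ h, (β ⟨v, h⟩ : Cfsg.Spor.Fi23) = v) → (β₀ ⟨u, hu⟩ : Cfsg.Spor.Fi23) = u := by
    intro u v hu huv hv
    have hvm : v ∈ centralizer ({r, s} : Set Cfsg.Spor.Fi23) := huv ▸ (E₂ ⟨u, hu⟩).2
    have h1 : E₂ ⟨u, hu⟩ = ⟨v, hvm⟩ := Subtype.ext huv
    have h2 : β ⟨v, hvm⟩ = ⟨v, hvm⟩ := Subtype.ext (hv hvm)
    show ((E₂.symm (β (E₂ ⟨u, hu⟩)) : ↥(centralizer ({z, s0} : Set Cfsg.Spor.Fi23))) : Cfsg.Spor.Fi23) = u
    rw [h1, h2, ← h1, MulEquiv.symm_apply_apply]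
  obtain ⟨γ₀, hγ₀⟩ := extend_aut_std β₀ (fun h => hfix z r h hcz hβr) (fun h => hfix s0 s h hcs hβs)
  refine ⟨(E₁.symm.trans γ₀).trans E₁, fun x hx => ?_⟩
  set y := E₁.symm x with hy
  have hxy : c * (y : Cfsg.Spor.Fi23) * c⁻¹ = x := congrArg Subtype.val (E₁.apply_symm_apply x)
  have hym : (y : Cfsg.Spor.Fi23) ∈ centralizer ({z, s0} : Set Cfsg.Spor.Fi23) := by
    have h1 := centralizer_pair_map c z s0
    rw [hcz, hcs] at h1
    obtain ⟨w, hw, e⟩ := (SetLike.ext_iff.1 h1 _).2 hx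
    have : (y : Cfsg.Spor.Fi23) = w := by
      have e' : c * w * c⁻¹ = c * y * c⁻¹ := e.trans hxy.symm
      exact (mul_left_cancel (mul_right_cancel e')).symm
    rw [this]; exact hw
  show c * ((γ₀ y : ↥(centralizer ({z} : Set Cfsg.Spor.Fi23))) : Cfsg.Spor.Fi23) * c⁻¹ = _
  rw [hγ₀ y hym]
  show ((E₂ (E₂.symm (β (E₂ ⟨y, hym⟩))) : ↥(centralizer ({r, s} : Set Cfsg.Spor.Fi23))) : Cfsg.Spor.Fi23) = _
  rw [MulEquiv.apply_symm_apply, show E₂ ⟨y, hym⟩ = ⟨x, hx⟩ from Subtype.ext hxy]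

end CfsgLib.FischerTwoFour.Recog
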