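import Cfsg.Agent.Lib.FischerTwoFour.InvCent.Main
import Cfsg.Agent.Lib.FischerTwoFour.OuterInv.Aut
import Cfsg.Agent.Lib.ThreeTrans.FiCent.Index.Extend
import Cfsg.Agent.Lib.ThreeTrans.Uniq.AutTop22
import Cfsg.Agent.Lib.Presented.Fi23Transpositions

/-!
In a group of large Fischer type the centraliser of an involution of `Q` outside the class of `z`: its subgroup
of index two as the centraliser of a transposition of Fi23, with the transpositions landing in the class, and
every automorphism of that subgroup realised by conjugation.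
-/

set_option autoImplicit false
set_option linter.unusedSectionVars false
set_option linter.style.haveILetI false
set_option maxHeartbeats 1000000

namespace CfsgLib.FischerTwoFour.Recog

open Subgroup CfsgLib.Presented
open scoped commutatorElement

universe u

/-- the transposition of Fi23 fixed by the first nine letters -/
noncomputable abbrev z23 : Cfsg.Spor.Fi23 := Fi23Transpositions.z

/-- the centraliser of an element of Fi23 -/
noncomputable abbrev C23 (s : Cfsg.Spor.Fi23) : Subgroup Cfsg.Spor.Fi23 := Subgroup.centralizer {s}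

theorem self_mem_C23 (s : Cfsg.Spor.Fi23) : s ∈ C23 s := mem_centralizer_singleton_iff.2 rfl

theorem commutator_mem_two {C : Type*} [Group C] {H : Subgroup C} (h : H.index = 2) (a b : C) : ⁅a, b⁆ ∈ H := by
  simp only [commutatorElement_def, mul_mem_iff_of_index_two h, inv_mem_iff]
  tauto

/-- A perfect central extension of Fi22 by a group of order two is the centraliser of a transposition of Fi23. -/
def CoverUnique : Prop :=
  ∀ {K : Type u} [Group K] [Finite K] {t : K} (_ : orderOf t = 2) [(zpowers t).Normal] (_ : t ∈ center K)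
    (_ : commutator K = ⊤) (_ : K ⧸ zpowers t ≃* Cfsg.Spor.Fi22),
    ∃ f : ↥(C23 z23) ≃* K, ∀ h, f ⟨z23, h⟩ = t

/-- What is used about the centraliser of an involution. -/
structure Cent {G : Type u} [Group G] (t : G) where
  K : Subgroup G
  le : K ≤ Subgroup.centralizer ({t} : Set G)
  iso : ↥(C23 z23) ≃* ↥K
  iso_z : ∀ h, (iso ⟨z23, h⟩ : G) = t
  swap : ∀ s ∈ conjugatesOf z23, ∀ hc : s ∈ C23 z23, s ≠ z23 →
    ∃ g : G, g * t * g⁻¹ = iso ⟨s, hc⟩ ∧ g * (iso ⟨s, hc⟩ : G) * g⁻¹ = t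
  pair : ∀ s ∈ conjugatesOf z23, ∀ hc : s ∈ C23 z23, s ≠ z23 →
    ∀ x : G, Commute x t → Commute x (iso ⟨s, hc⟩ : G) → x ∈ K
  normal : ∀ c ∈ Subgroup.centralizer ({t} : Set G), ∀ k ∈ K, c * k * c⁻¹ ∈ K
  perfect_le : ∀ L : Subgroup G, L ≤ Subgroup.centralizer ({t} : Set G) → ⁅L, L⁆ = L → L ≤ K
  kill : ∀ c ∈ Subgroup.centralizer ({t} : Set G), (∀ k ∈ K, Commute c k) → c = 1 ∨ c = t
  surj : ∀ τ : MulAut ↥K, ∃ c ∈ Subgroup.centralizer ({t} : Set G), ∀ k : ↥K, (τ k : G) = c * k * c⁻¹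
  card : Nat.card ↥(Subgroup.centralizer ({t} : Set G)) = 2 * Nat.card ↥K

variable {G : Type u} [Group G] [Finite G] {z : G} {Q : Subgroup (Subgroup.centralizer ({z} : Set G))} [Q.Normal]

/-- The centraliser of a pair of the triangle. -/
theorem exists_cent (hcov : CoverUnique.{u}) (h5449 : InvCent.LargeFischerFourGroup.{u})
    (hF : Cfsg.IsOfLargeFischerTypeAt z Q) {t : G}
    (htQ : ∃ htc : t ∈ Subgroup.centralizer ({z} : Set G), (⟨t, htc⟩ : Subgroup.centralizer ({z} : Set G)) ∈ Q)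
    (ht2o : orderOf t = 2) (ht : ¬ IsConj z t) : Nonempty (Cent t) := by
  classical
  haveI : IsSimpleGroup Cfsg.Spor.Fi22 := CfsgLib.Presented.Fi22Simple.simple
  haveI := CfsgLib.ThreeTrans.Inst.FiTwentyTwo.finite_fi22
  have hXc := CfsgLib.ThreeTrans.Inst.FiTwentyTwo.center_bot
  have ht2 : t * t = 1 := by rw [← pow_two, ← ht2o]; exact pow_orderOf_eq_one t
  have ht1 : t ≠ 1 := fun e => by rw [e, orderOf_one] at ht2o; omega
  have htQ' : t ∈ Q.map (Subgroup.centralizer ({z} : Set G)).subtype := by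
    obtain ⟨htc, hm⟩ := htQ
    exact ⟨⟨t, htc⟩, hm, rfl⟩
  obtain ⟨Tr⟩ := InvCent.exists_triangle h5449 hF htQ' ht2 ht1 ht
  set C := Subgroup.centralizer ({t} : Set G) with hC
  set T := (Subgroup.zpowers t).subgroupOf C with hTdef
  have htC : t ∈ C := mem_centralizer_singleton_iff.2 rfl
  have hmem : ∀ x : C, x ∈ T ↔ ((x : G) = 1 ∨ (x : G) = t) := by
    intro x
    rw [hTdef, mem_subgroupOf, mem_zpowers_iff]
    constructor
    · rintro ⟨k, hk⟩
      rw [← hk, ← zpow_mod_orderOf, ht2o]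
      rcases Int.emod_two_eq k with h | h <;> simp [h]
    · rintro (e | e)
      · exact ⟨0, by rw [e, zpow_zero]⟩
      · exact ⟨1, by rw [e, zpow_one]⟩
  have hT : T ≤ center C := fun x hx => mem_center_iff.2 fun g => Subtype.ext (by
    rcases (hmem x).1 hx with e' | e'
    · show (g : G) * x = x * g
      rw [e', mul_one, one_mul]
    · show (g : G) * x = x * g
      rw [e']
      exact mem_centralizer_singleton_iff.1 g.2)
  haveI hTn : T.Normal := ⟨fun x hx g => by
    rwa [mem_center_iff.1 (hT hx) g, mul_inv_cancel_right]⟩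
  obtain ⟨hq, hidx, ⟨htC', htK⟩, ⟨ε⟩⟩ :=
    InvCent.fischerTwoFourCentralizer h5449 z Q hF t htQ ht2o ht _ rfl
  set K' := Cfsg.generalizedFittingSubgroup ↥C with hK'
  have hTK : T ≤ K' := fun x hx => by
    rcases (hmem x).1 hx with e | e
    · rw [show x = 1 from Subtype.ext e]; exact one_mem _
    · rw [show x = ⟨t, htC'⟩ from Subtype.ext e]; exact htK
  obtain ⟨f, hfs, hfk, hfε⟩ := OuterInv.exists_quot hTK hq hidx hXc ε
  have hkill : ∀ c : C, (∀ m ∈ K', c * m = m * c) → c ∈ T := OuterInv.centralizer_le hT hTK hq hidx hXc ε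
  haveI hKn : K'.Normal := K'.normal_of_index_eq_two hidx
  set K : Subgroup G := K'.map C.subtype with hKdef
  let j : ↥K' ≃* ↥K := K'.equivMapOfInjective C.subtype C.subtype_injective
  have hj : ∀ m : ↥K', (j m : G) = ((m : C) : G) := fun m => rfl
  have hperf : _root_.commutator ↥K' = ⊤ := hq.1.commutator_eq_top
  -- the cover
  set tK : ↥K := j ⟨⟨t, htC'⟩, htK⟩ with htKdef
  have htK2 : orderOf tK = 2 := by
    rw [← Subgroup.orderOf_coe, show (tK : G) = t from rfl]; exact ht2o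
  have hzp : ∀ k : ↥K, k ∈ zpowers tK ↔ ((k : G) = 1 ∨ (k : G) = t) := fun k => by
    rw [mem_zpowers_iff]
    constructor
    · rintro ⟨i, rfl⟩
      rw [← zpow_mod_orderOf, htK2]
      rcases Int.emod_two_eq i with h | h <;> simp [h, htKdef, hj]
    · rintro (e | e)
      · exact ⟨0, Subtype.ext (by rw [zpow_zero, e]; rfl)⟩
      · exact ⟨1, Subtype.ext (by rw [zpow_one, e]; rfl)⟩
  let fK : ↥K →* Cfsg.Spor.Fi22 := f.comp j.symm.toMonoidHom
  have hfKs : Function.Surjective fK := hfs.comp j.symm.surjective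
  have hfK : ∀ m : ↥K', fK (j m) = f m := fun m => by simp [fK]
  have hfKk : ∀ k : ↥K, fK k = 1 ↔ ((k : G) = 1 ∨ (k : G) = t) := fun k => by
    obtain ⟨m, rfl⟩ := j.surjective k
    rw [hfK, hfk, hmem, hj]
  have hker : fK.ker = zpowers tK := by
    ext k
    rw [MonoidHom.mem_ker, hfKk, hzp]
  haveI : (zpowers tK).Normal := hker ▸ fK.normal_ker
  have htcen : tK ∈ center ↥K := mem_center_iff.2 fun k => Subtype.ext (by
    obtain ⟨m, rfl⟩ := j.surjective k
    exact mem_centralizer_singleton_iff.1 (m : C).2)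
  have hperfK : _root_.commutator ↥K = ⊤ := by
    rw [_root_.commutator_def, ← map_top_of_surjective j.toMonoidHom j.surjective, ← map_commutator,
      ← _root_.commutator_def, hperf]
  obtain ⟨iso, hiso⟩ := hcov htK2 htcen hperfK
    ((QuotientGroup.quotientMulEquivOfEq hker.symm).trans (QuotientGroup.quotientKerEquivOfSurjective fK hfKs))
  -- the pair in `K`
  set u := Tr.D.p Tr.a Tr.c with hu
  have hperfX : _root_.commutator ↥(Subgroup.centralizer ({t, u} : Set G)) = ⊤ :=
    CfsgLib.Components.quasisimple_commutator_eq_top Tr.quasi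
  have hperfle : ∀ L : Subgroup G, L ≤ C → ⁅L, L⁆ = L → L ≤ K := by
    intro L hL hLL
    have hle : L.subgroupOf C ≤ K' := by
      have e : ⁅L.subgroupOf C, L.subgroupOf C⁆ = L.subgroupOf C := by
        refine map_injective C.subtype_injective ?_
        rw [map_commutator, map_subgroupOf_eq_of_le hL, hLL]
      rw [← e, commutator_le]
      intro a _ b _
      exact commutator_mem_two hidx a b
    intro x hx
    exact ⟨⟨x, hL hx⟩, hle hx, rfl⟩
  have hXK : Subgroup.centralizer ({t, u} : Set G) ≤ K := hperfle _ (centralizer_le (by simp)) (by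
    rw [← map_subtype_commutator, hperfX, ← MonoidHom.range_eq_map, range_subtype])
  have huA : u ∈ Tr.A := Tr.D.mem _ _
  have htA : t ∈ Tr.A := by
    have h := Tr.D.mem Tr.a Tr.b
    rwa [Tr.t_eq] at h
  have huK : u ∈ K := hXK (mem_centralizer_iff.2 (by
    rintro y (rfl | rfl)
    · exact Tr.D.comm _ htA _ huA
    · rfl))
  -- the image of the pair is a transposition
  have hX0 : fK ⟨u, huK⟩ ∈ CfsgLib.ThreeTrans.Inst.FiTwentyTwo.D := by
    obtain ⟨d, θ, L, ⟨huC, hd⟩, -, n, -⟩ := InvCent.exists_link Tr (QuotientGroup.mk' T) hF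
      (QuotientGroup.mk'_surjective T) (fun x => (QuotientGroup.eq_one_iff x).trans (hmem x))
    have hd1 : d ≠ 1 := by
      rw [hd, Ne, QuotientGroup.mk'_apply, QuotientGroup.eq_one_iff, hmem]
      rintro (e | e)
      · exact Tr.D.ne_one _ _ Tr.hac e
      · rcases Tr.D.uniq _ _ _ _ Tr.hac Tr.hab (e.trans Tr.t_eq.symm) with ⟨-, h⟩ | ⟨h, -⟩
        · exact Tr.hbc h
        · exact Tr.hac h
    obtain ⟨φ, hφi, hφa, -, -⟩ := CfsgLib.ThreeTrans.FiCent.Index.exists_embedding L hd1
    let g : ↥K' →* C ⧸ T := (QuotientGroup.mk' T).comp K'.subtype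
    have hgk : g.ker = f.ker := by
      ext m
      rw [MonoidHom.mem_ker, MonoidHom.mem_ker, hfk]
      exact QuotientGroup.eq_one_iff _
    let η : Cfsg.Spor.Fi22 →* C ⧸ T := f.liftOfSurjective hfs ⟨g, hgk.ge⟩
    have hη : ∀ m, η (f m) = g m := fun m => MonoidHom.liftOfRightInverse_comp_apply _ _ _ _ m
    have hηi : Function.Injective η := (injective_iff_map_eq_one η).2 fun x hx => by
      obtain ⟨m, rfl⟩ := hfs x
      rw [hη] at hx
      rwa [← MonoidHom.mem_ker, ← hgk, MonoidHom.mem_ker]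
    have hφη : φ.range ≤ η.range := by
      have hX : _root_.commutator Cfsg.Spor.Fi22 = ⊤ :=
        ((inferInstance : (_root_.commutator Cfsg.Spor.Fi22).Normal).eq_bot_or_eq_top).resolve_left fun h => by
          obtain ⟨x, hx⟩ := exists_ne (1 : Cfsg.Spor.Fi22)
          have hc : x ∈ center Cfsg.Spor.Fi22 := mem_center_iff.2 fun y =>
            commutatorElement_eq_one_iff_mul_comm.1 (mem_bot.1 (h ▸ commutator_mem_commutator (mem_top _) (mem_top _)))
          rw [hXc, mem_bot] at hc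
          exact hx hc
      have hR : η.range = K'.map (QuotientGroup.mk' T) := by
        refine le_antisymm ?_ ?_
        · rintro _ ⟨x, rfl⟩
          obtain ⟨m, rfl⟩ := hfs x
          exact ⟨m, m.2, (hη m).symm⟩
        · rintro _ ⟨m, hm, rfl⟩
          exact ⟨f ⟨m, hm⟩, hη _⟩
      rw [MonoidHom.range_eq_map, ← hX, _root_.commutator_def, map_commutator, hR, commutator_le]
      intro a _ b _
      obtain ⟨a, rfl⟩ := QuotientGroup.mk'_surjective T a
      obtain ⟨b, rfl⟩ := QuotientGroup.mk'_surjective T b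
      rw [← map_commutatorElement]
      refine mem_map_of_mem _ ?_
      exact commutator_mem_two hidx a b
    have hinv : ∀ x, ∃ y, η y = φ x := fun x => hφη ⟨x, rfl⟩
    choose α hα using hinv
    let αh : Cfsg.Spor.Fi22 →* Cfsg.Spor.Fi22 := MonoidHom.mk' α fun x y => hηi (by
      rw [map_mul, hα, hα, hα, map_mul])
    have hαi : Function.Injective αh := fun x y e => hφi (by rw [← hα x, ← hα y]; exact congrArg η e)
    let αe : MulAut Cfsg.Spor.Fi22 := MulEquiv.ofBijective αh (Finite.injective_iff_bijective.1 hαi)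
    have hval : fK ⟨u, huK⟩ = αe CfsgLib.ThreeTrans.Inst.FiTwentyTwo.a := by
      refine hηi ?_
      obtain ⟨m, hm⟩ := j.surjective ⟨u, huK⟩
      rw [show αe CfsgLib.ThreeTrans.Inst.FiTwentyTwo.a = α CfsgLib.ThreeTrans.Inst.FiTwentyTwo.a from rfl,
        hα, hφa, hd, ← hm, hfK, hη]
      exact congrArg (QuotientGroup.mk' T) (Subtype.ext ((hj m).symm.trans (congrArg Subtype.val hm)))
    rw [hval]
    refine CfsgLib.ThreeTrans.Uniq.mapsTo22 CfsgLib.ThreeTrans.Inst.FiTwentyTwo.isGroup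
      CfsgLib.ThreeTrans.Inst.FiTwentyTwo.primitive CfsgLib.ThreeTrans.Inst.FiTwentyTwo.typeM22 αe ?_
    exact CfsgLib.ThreeTrans.FiCent.T_zero ▸ CfsgLib.ThreeTrans.FiCent.T_mem 0
  -- the class
  have huniq := CfsgLib.ThreeTrans.Tower.unique22 CfsgLib.ThreeTrans.Inst.FiTwentyTwo.isGroup
      CfsgLib.ThreeTrans.Inst.FiTwentyTwo.primitive CfsgLib.ThreeTrans.Inst.FiTwentyTwo.typeM22
  have htu : ∀ v : G, v = u ∨ v = t * u →
      (∃ g : G, g * t * g⁻¹ = v ∧ g * v * g⁻¹ = t) ∧ ∀ x : G, Commute x t → Commute x v → x ∈ K := by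
    have key : ∀ (i k l : Cfsg.GolayPt), i ≠ k → i ≠ l → k ≠ l →
        ∃ g : G, g * Tr.D.p i k * g⁻¹ = Tr.D.p i l ∧ g * Tr.D.p i l * g⁻¹ = Tr.D.p i k := by
      intro i k l hik hil hkl
      obtain ⟨g, hg, hgL⟩ := CfsgLib.Golay.exists_map_eq (L := [i, k, l]) (L' := [i, l, k])
        (by simp [hik, hil, hkl]) (by simp [hik, hil, hkl.symm]) rfl (by simp)
      simp only [List.map_cons, List.map_nil, List.cons.injEq, and_true] at hgL
      obtain ⟨m, hm⟩ := Tr.D.act_surj ⟨g, hg⟩
      refine ⟨m, ?_, ?_⟩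
      · rw [Tr.D.act_p m, hm, hgL.1, hgL.2.1]
      · rw [Tr.D.act_p m, hm, hgL.1, hgL.2.2]
    rintro v (rfl | rfl)
    · refine ⟨?_, fun x h1 h2 => hXK (mem_centralizer_iff.2 ?_)⟩
      · obtain ⟨g, h1, h2⟩ := key Tr.a Tr.b Tr.c Tr.hab Tr.hac Tr.hbc
        rw [Tr.t_eq] at h1 h2
        exact ⟨g, h1, h2⟩
      · rintro y (rfl | rfl)
        exacts [h1.eq.symm, h2.eq.symm]
    · refine ⟨?_, fun x h1 h2 => hXK (mem_centralizer_iff.2 ?_)⟩
      · obtain ⟨g, h1, h2⟩ := key Tr.b Tr.a Tr.c (Ne.symm Tr.hab) Tr.hbc Tr.hac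
        have h : t * u = Tr.D.p Tr.b Tr.c := by
          have h := Tr.D.add Tr.a Tr.b Tr.c
          rwa [Tr.t_eq] at h
        rw [Tr.D.symm Tr.b Tr.a, Tr.t_eq, ← h] at h1 h2
        exact ⟨g, h1, h2⟩
      · rintro y (rfl | rfl)
        · exact h1.eq.symm
        · have h3 := h1.mul_right h2
          rw [← mul_assoc, ht2, one_mul] at h3
          exact h3.eq.symm
  have hcls : ∀ s ∈ conjugatesOf z23, ∀ hc : s ∈ C23 z23, s ≠ z23 →
      (∃ g : G, g * t * g⁻¹ = iso ⟨s, hc⟩ ∧ g * (iso ⟨s, hc⟩ : G) * g⁻¹ = t) ∧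
        ∀ x : G, Commute x t → Commute x (iso ⟨s, hc⟩ : G) → x ∈ K := by
    intro s hs hc hne
    have h3 := Fi23Transpositions.isThreeTranspositionClass.1
    have hs2 : s * s = 1 := by rw [← pow_two, ← h3.1 s hs]; exact pow_orderOf_eq_one s
    set π : ↥(C23 z23) →* Cfsg.Spor.Fi22 := fK.comp iso.toMonoidHom with hπ
    have hπs : Function.Surjective π := hfKs.comp iso.surjective
    have hz : π ⟨z23, self_mem_C23 _⟩ = 1 := by
      show fK (iso _) = 1
      rw [hiso, hfKk]
      exact Or.inr rfl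
    have hx : CfsgLib.ThreeTrans.Tower.ThreeT (π ⟨s, hc⟩) := by
      refine ⟨by rw [← map_mul, show (⟨s, hc⟩ : ↥(C23 z23)) * ⟨s, hc⟩ = 1 from Subtype.ext hs2, map_one], fun g => ?_⟩
      obtain ⟨g, rfl⟩ := hπs g
      simp only [← map_inv, ← map_mul, ← map_pow]
      have hgs : (g : Cfsg.Spor.Fi23) * s * (g : Cfsg.Spor.Fi23)⁻¹ ∈ conjugatesOf z23 :=
        IsConj.trans (show IsConj z23 s from hs) (isConj_iff.2 ⟨g, rfl⟩)
      rcases h3.2 s hs _ hgs with e | e
      · exact Or.inl (by rw [← map_one π]; exact congrArg π (Subtype.ext e))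
      · exact Or.inr (by rw [← map_one π]; exact congrArg π (Subtype.ext e))
    have hne1 : π ⟨s, hc⟩ ≠ 1 := fun e => by
      have e' : (iso ⟨s, hc⟩ : G) = 1 ∨ (iso ⟨s, hc⟩ : G) = t := (hfKk _).1 e
      rcases e' with e' | e'
      · have h1 : s = 1 := congrArg Subtype.val (iso.injective
          (show iso ⟨s, hc⟩ = iso 1 from Subtype.ext (by rw [map_one]; exact e')))
        have := h3.1 s hs
        rw [h1, orderOf_one] at this
        omega
      · exact hne (congrArg Subtype.val (iso.injective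
          (show iso ⟨s, hc⟩ = iso ⟨z23, self_mem_C23 _⟩ from Subtype.ext (by rw [e', hiso]; rfl))))
    have hD := (huniq _ hx).resolve_left hne1
    have hcj : ∃ g : Cfsg.Spor.Fi22, g * fK ⟨u, huK⟩ * g⁻¹ = π ⟨s, hc⟩ := by
      obtain ⟨g₁, h1⟩ := isConj_iff.1 (show IsConj CfsgLib.ThreeTrans.Inst.FiTwentyTwo.a (fK ⟨u, huK⟩) from hX0)
      obtain ⟨g₂, h2⟩ := isConj_iff.1 (show IsConj CfsgLib.ThreeTrans.Inst.FiTwentyTwo.a (π ⟨s, hc⟩) from hD)
      exact ⟨g₂ * g₁⁻¹, by rw [← h1, ← h2]; group⟩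
    obtain ⟨g, hg⟩ := hcj
    obtain ⟨k, rfl⟩ := hfKs g
    have e : fK ((k * ⟨u, huK⟩ * k⁻¹)⁻¹ * iso ⟨s, hc⟩) = 1 := by
      rw [map_mul, map_inv, map_mul, map_mul, map_inv, hg]
      exact inv_mul_cancel _
    obtain ⟨v, hv, e2⟩ : ∃ v, (v = u ∨ v = t * u) ∧ ((iso ⟨s, hc⟩ : ↥K) : G) = (k : G) * v * (k : G)⁻¹ := by
      have hkt : Commute (k : G) t := by
        obtain ⟨m, rfl⟩ := j.surjective k
        exact mem_centralizer_singleton_iff.1 (m : C).2
      rcases (hfKk _).1 e with e' | e'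
      · exact ⟨u, Or.inl rfl, (inv_mul_eq_one.1 e').symm⟩
      · refine ⟨t * u, Or.inr rfl, (inv_mul_eq_iff_eq_mul.1 e').trans ?_⟩
        show (k : G) * u * (k : G)⁻¹ * t = _
        rw [mul_assoc _ ((k : G)⁻¹) t, (hkt.inv_left).eq, ← mul_assoc, mul_assoc (k : G) u t,
          (Tr.D.comm _ huA _ htA)]
    have hkt : Commute (k : G) t := by
      obtain ⟨m, rfl⟩ := j.surjective k
      exact mem_centralizer_singleton_iff.1 (m : C).2
    have hkt' : (k : G) * t * (k : G)⁻¹ = t := by rw [hkt.eq, mul_inv_cancel_right]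
    obtain ⟨⟨g, g1, g2⟩, hp⟩ := htu v hv
    rw [e2]
    refine ⟨⟨(k : G) * g * (k : G)⁻¹, ?_, ?_⟩, fun x h1 h2 => ?_⟩
    · nth_rewrite 1 [← hkt']
      rw [← g1]
      group
    · conv_rhs => rw [← hkt', ← g2]
      group
    · have h1' : Commute ((k : G)⁻¹ * x * k) t := by
        have := h1.map (MulAut.conj (k : G)⁻¹).toMonoidHom
        have hkt'' : (k : G)⁻¹ * t * k = t := by rw [mul_assoc, ← hkt.eq, inv_mul_cancel_left]
        simpa [hkt''] using this
      have h2' : Commute ((k : G)⁻¹ * x * k) v := by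
        have := h2.map (MulAut.conj (k : G)⁻¹).toMonoidHom
        simpa [mul_assoc] using this
      have := K.mul_mem (K.mul_mem k.2 (hp _ h1' h2')) (K.inv_mem k.2)
      simpa [mul_assoc] using this
  -- automorphisms
  have hsurj : ∀ τ : MulAut ↥K, ∃ c ∈ C, ∀ k : ↥K, (τ k : G) = c * k * c⁻¹ := by
    intro τ
    have hcK : center ↥K ≤ fK.ker := fun x hx => by
      have h : fK x ∈ center Cfsg.Spor.Fi22 := mem_center_iff.2 fun y => by
        obtain ⟨w, rfl⟩ := hfKs y
        rw [← map_mul, ← map_mul, mem_center_iff.1 hx w]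
      rwa [hXc, mem_bot] at h
    have hτt : τ tK = tK := by
      have hc : τ tK ∈ center ↥K := mem_center_iff.2 fun y => by
        obtain ⟨y, rfl⟩ := τ.surjective y
        rw [← map_mul, ← map_mul, mem_center_iff.1 htcen y]
      rcases (hfKk _).1 (hcK hc) with e | e
      · exfalso
        have : tK = 1 := τ.injective ((Subtype.ext e : τ tK = 1).trans (map_one τ).symm)
        rw [this, orderOf_one] at htK2
        omega
      · exact Subtype.ext e
    have hker2 : fK.ker ≤ (fK.comp τ.toMonoidHom).ker := fun x hx => by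
      rw [hker, mem_zpowers_iff] at hx
      obtain ⟨i, rfl⟩ := hx
      show fK (τ (tK ^ i)) = 1
      rw [map_zpow, hτt, ← MonoidHom.mem_ker, hker]
      exact zpow_mem (mem_zpowers _) i
    let σh : Cfsg.Spor.Fi22 →* Cfsg.Spor.Fi22 := fK.liftOfSurjective hfKs ⟨fK.comp τ.toMonoidHom, hker2⟩
    have hσ : ∀ m, σh (fK m) = fK (τ m) := fun m => MonoidHom.liftOfRightInverse_comp_apply _ _ _ _ m
    have hσs : Function.Surjective σh := fun y => by
      obtain ⟨m, rfl⟩ := hfKs y
      obtain ⟨m, rfl⟩ := τ.surjective m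
      exact ⟨fK m, hσ m⟩
    let σ : MulAut Cfsg.Spor.Fi22 := MulEquiv.ofBijective σh (Finite.surjective_iff_bijective.1 hσs)
    obtain ⟨q, hq'⟩ := ε.surjective σ
    obtain ⟨c, rfl⟩ := QuotientGroup.mk_surjective q
    refine ⟨c, c.2, fun k => ?_⟩
    obtain ⟨m, rfl⟩ := j.surjective k
    -- conjugation and the automorphism differ by a map to the centre
    let cm : ↥K' →* ↥K' :=
      { toFun := fun x => ⟨c * x * c⁻¹, hKn.conj_mem _ x.2 c⟩
        map_one' := Subtype.ext (by simp)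
        map_mul' := fun x y => Subtype.ext (by simp [mul_assoc]) }
    have hdiff : ∀ x : ↥K', ((((j.symm (τ (j x)))⁻¹ * cm x : ↥K') : C)) ∈ T := fun x => by
      rw [← hfk, map_mul, map_inv, inv_mul_eq_one]
      refine (MulAut.conj (G := Cfsg.Spor.Fi22)).ker_eq_bot_iff.1 ?_ ?_
      · refine (Subgroup.eq_bot_iff_forall _).2 fun y hy => ?_
        have hyc : y ∈ center Cfsg.Spor.Fi22 := mem_center_iff.2 fun w => by
          have := congrArg (fun s : MulAut Cfsg.Spor.Fi22 => s w) (MonoidHom.mem_ker.1 hy)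
          simp only [MulAut.conj_apply, MulAut.one_apply] at this
          exact (mul_inv_eq_iff_eq_mul.1 this).symm
        rwa [hXc, mem_bot] at hyc
      rw [← hfε (cm x), show ((cm x : ↥K') : C) = c * x * c⁻¹ from rfl, QuotientGroup.mk_mul, QuotientGroup.mk_mul,
        QuotientGroup.mk_inv, map_mul, map_mul, map_inv, hq', hfε,
        show f (j.symm (τ (j x))) = σh (f x) by rw [← hfK x, hσ]; rfl]
      exact MulEquiv.ext fun y => by
        obtain ⟨y, rfl⟩ := (σ).surjective y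
        simp [MulAut.mul_apply, σ]
    let δ : ↥K' →* ↥T :=
      { toFun := fun x => ⟨_, hdiff x⟩
        map_one' := Subtype.ext (by simp)
        map_mul' := fun x y => Subtype.ext (by
          have hc := mem_center_iff.1 (hT (hdiff x))
          simp only [map_mul, Subgroup.coe_mul, InvMemClass.coe_inv, mul_inv_rev] at hc ⊢
          calc _ = ((j.symm (τ (j y)) : ↥K') : C)⁻¹ * (((j.symm (τ (j x)) : ↥K') : C)⁻¹ * (cm x : C)) * (cm y : C) := by
                simp only [mul_assoc]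
            _ = _ := by rw [hc]; simp only [mul_assoc]) }
    have h : m ∈ δ.ker := by
      have hle : _root_.commutator ↥K' ≤ δ.ker := by
        rw [_root_.commutator_def, commutator_le]
        intro a _ b _
        rw [MonoidHom.mem_ker, map_commutatorElement, commutatorElement_eq_one_iff_mul_comm]
        exact Subtype.ext (mem_center_iff.1 (hT (δ b).2) _)
      exact hle (hperf.ge (mem_top m))
    have h1 : ((j.symm (τ (j m)) : ↥K') : C) = cm m := inv_mul_eq_one.1 (congrArg Subtype.val (MonoidHom.mem_ker.1 h))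
    have h2 := congrArg Subtype.val h1
    rw [← hj, j.apply_symm_apply] at h2
    exact h2
  refine ⟨⟨K, map_subtype_le _, iso, fun h => congrArg Subtype.val (hiso h), fun s hs hc hne => (hcls s hs hc hne).1,
    fun s hs hc hne => (hcls s hs hc hne).2, ?_, hperfle, ?_, hsurj, ?_⟩⟩
  · rintro c hc _ ⟨m, hm, rfl⟩
    exact ⟨⟨c, hc⟩ * m * ⟨c, hc⟩⁻¹, hKn.conj_mem m hm _, rfl⟩
  · intro c hc hk
    exact (hmem _).1 (hkill ⟨c, hc⟩ fun m hm => Subtype.ext (hk _ ⟨m, hm, rfl⟩).eq)
  · rw [hKdef, card_map_of_injective C.subtype_injective, ← hidx, mul_comm, card_mul_index]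

end CfsgLib.FischerTwoFour.Recog
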