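import Cfsg.Agent.Lib.FischerTwoFour.InvCent.Four
import Cfsg.Agent.Lib.ThreeTrans.TypeTop.Classify24
import Cfsg.Agent.Lib.ThreeTrans.Inst.FiTwentyFourType
import Cfsg.Agent.Lib.Presented.Fi24Simple

/-!
A copy of the commutator subgroup of the presented Fischer group on 24 letters inside a group of large Fischer
type, containing the centraliser of an involution of `Q` outside the class of `z`, is everything: the copy has
two classes of involutions, so it controls their fusion and contains both centralisers.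
-/

set_option autoImplicit false
set_option linter.style.haveILetI false

namespace CfsgLib.FischerTwoFour.Recog

open Subgroup

open CfsgLib.ThreeTrans.TypeTop (IsProd classify24 classes24)
open CfsgLib.ThreeTrans.Inst (FiTwentyFour.D)

/-- The commutator subgroup has at most two classes of involutions. -/
theorem two_classes_fi24' {a b c : Cfsg.Spor.Fi24'} (ha : a * a = 1) (ha1 : a ≠ 1) (hb : b * b = 1) (hb1 : b ≠ 1)
    (hc : c * c = 1) (hc1 : c ≠ 1) : IsConj a b ∨ IsConj a c ∨ IsConj b c := by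
  haveI := CfsgLib.ThreeTrans.Inst.FiTwentyFour.finite_fi24
  have hD := CfsgLib.ThreeTrans.Inst.FiTwentyFour.isGroup
  have hprim := CfsgLib.ThreeTrans.Inst.FiTwentyFour.primitive
  have h24 := CfsgLib.ThreeTrans.Inst.FiTwentyFour.typeM24
  set K := commutator Cfsg.Spor.Fi24 with hK
  have hidx : K.index = 2 := Cfsg.Agent.S1691.result
  haveI : K.Normal := Subgroup.normal_of_index_eq_two hidx
  -- the transpositions are outside
  have hout : ∀ d ∈ FiTwentyFour.D, d ∉ K := by
    intro d hd hdK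
    have hall : FiTwentyFour.D ⊆ (K : Set Cfsg.Spor.Fi24) := fun y hy => by
      obtain ⟨g, rfl⟩ := hprim.1 d hd y hy
      exact (inferInstance : K.Normal).conj_mem d hdK g
    have htop : (⊤ : Subgroup Cfsg.Spor.Fi24) ≤ K := hD.2.2.ge.trans ((closure_le K).2 hall)
    rw [top_unique htop, index_top] at hidx
    omega
  have hpar : ∀ l : List Cfsg.Spor.Fi24, (∀ y ∈ l, y ∈ FiTwentyFour.D) → (l.prod ∈ K ↔ Even l.length) := by
    intro l hl
    induction l with
    | nil => simp
    | cons y t ih =>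
      rw [List.prod_cons, mul_mem_iff_of_index_two hidx, ih fun w hw => hl w (List.mem_cons_of_mem _ hw),
        List.length_cons, Nat.even_add_one]
      simp [hout y (hl y (by simp))]
  have key : ∀ x : Cfsg.Spor.Fi24', x * x = 1 → x ≠ 1 →
      IsProd FiTwentyFour.D 2 (x : Cfsg.Spor.Fi24) ∨ IsProd FiTwentyFour.D 4 (x : Cfsg.Spor.Fi24) := by
    intro x hx hx1
    obtain ⟨n, hn, hn4, hp⟩ := classify24 hD hprim h24 (congrArg Subtype.val hx) fun e => hx1 (Subtype.ext e)
    obtain ⟨l, -, hlen, hm, -, hprod⟩ := id hp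
    have he : Even n := hlen ▸ (hpar l hm).1 (hprod ▸ x.2)
    rcases (by obtain ⟨k, rfl⟩ := he; omega : n = 2 ∨ n = 4) with rfl | rfl
    exacts [Or.inl hp, Or.inr hp]
  have same : ∀ {n : ℕ} (x y : Cfsg.Spor.Fi24'), 1 ≤ n → n ≤ 4 → IsProd FiTwentyFour.D n (x : Cfsg.Spor.Fi24) →
      IsProd FiTwentyFour.D n (y : Cfsg.Spor.Fi24) → IsConj x y := by
    intro n x y hn hn4 hx hy
    obtain ⟨g, hg⟩ := isConj_iff.1 ((classes24 hD hprim h24 hn hn4).2 _ _ hx hy)
    by_cases hgK : g ∈ K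
    · exact isConj_iff.2 ⟨⟨g, hgK⟩, Subtype.ext hg⟩
    · obtain ⟨l, -, hlen, hm, hcm, hprod⟩ := hx
      obtain ⟨d, t, rfl⟩ := List.exists_cons_of_ne_nil (show l ≠ [] by rintro rfl; simp at hlen; omega)
      have hc : Commute d (x : Cfsg.Spor.Fi24) := by
        rw [← hprod]
        exact Commute.list_prod_right _ _ fun w hw => hcm d (by simp) w hw
      refine isConj_iff.2 ⟨⟨g * d, (mul_mem_iff_of_index_two hidx).2 (iff_of_false hgK (hout d (hm d (by simp))))⟩,
        Subtype.ext ?_⟩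
      show g * d * (x : Cfsg.Spor.Fi24) * (g * d)⁻¹ = y
      rw [mul_inv_rev, mul_assoc g d, hc.eq]
      refine Eq.trans ?_ hg
      group
  rcases key a ha ha1 with pa | pa <;> rcases key b hb hb1 with pb | pb <;> rcases key c hc hc1 with pc | pc
  all_goals first
    | exact Or.inl (same _ _ (by norm_num) (by norm_num) pa pb)
    | exact Or.inr (Or.inl (same _ _ (by norm_num) (by norm_num) pa pc))
    | exact Or.inr (Or.inr (same _ _ (by norm_num) (by norm_num) pb pc))

variable {G : Type*} [Group G] [Finite G] {z : G} {Q : Subgroup (Subgroup.centralizer ({z} : Set G))} [Q.Normal]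

/-- The 2-part of the centraliser of an involution of `Q` outside the class of `z` is small. -/
theorem not_dvd_centralizer (hF : Cfsg.IsOfLargeFischerTypeAt z Q) {t : G}
    (htQ : t ∈ Q.map (Subgroup.centralizer ({z} : Set G)).subtype) (ht2 : t * t = 1) (ht1 : t ≠ 1)
    (ht : ¬ IsConj z t) : ¬ 2 ^ 21 ∣ Nat.card ↥(Subgroup.centralizer ({t} : Set G)) := by
  intro h
  haveI := Fact.mk Nat.prime_two
  obtain ⟨A, D, htA⟩ := InvCent.exists_duads_at hF htQ ht2 ht1 ht
  set C := Subgroup.centralizer ({t} : Set G) with hC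
  have hAC : A ≤ C := fun x hx => mem_centralizer_singleton_iff.2 (D.comm x hx t htA)
  have hA2 : IsPGroup 2 A := IsPGroup.of_card (n := 11) (by rw [D.card]; norm_num)
  obtain ⟨S, hS⟩ := (hA2.comap_subtype (K := C)).exists_le_sylow
  set S' := (S : Subgroup C).map C.subtype with hS'
  have hAS : A ≤ S' := fun x hx => ⟨⟨x, hAC hx⟩, hS hx, rfl⟩
  obtain ⟨T, hT⟩ := (S.2.map C.subtype).exists_le_sylow
  have hSN : S' ≤ normalizer (A : Set G) := by
    rw [eq_thompson hF T (hAS.trans hT) D.sq D.card]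
    exact hT.trans (le_normalizer_thompson hF T)
  obtain ⟨a, b, hab, hpt⟩ := D.surj t htA ht1 ht
  have h21 : 2 ^ 21 ∣ Nat.card S' := by
    rw [hS', card_map_of_injective C.subtype_injective]
    exact S.pow_dvd_card_of_pow_dvd_card h
  have hle : S' ≤ normalizer (A : Set G) ⊓ Subgroup.centralizer ({D.p a b} : Set G) :=
    le_inf hSN (by rw [hpt]; exact map_subtype_le _)
  have h' := h21.trans (card_dvd_of_le hle)
  rw [InvCent.card_norm_pair D hab] at h'
  norm_num at h'

/-- A copy of the commutator subgroup containing the centraliser of such an involution is everything. -/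
theorem onto (hF : Cfsg.IsOfLargeFischerTypeAt z Q) (φ : Cfsg.Spor.Fi24' →* G) (hφ : Function.Injective φ) {t : G}
    (htQ : ∃ htc : t ∈ Subgroup.centralizer ({z} : Set G),
      (⟨t, htc⟩ : Subgroup.centralizer ({z} : Set G)) ∈ Q)
    (ht2 : orderOf t = 2) (ht : ¬ IsConj z t) (hCt : Subgroup.centralizer ({t} : Set G) ≤ φ.range) :
    Function.Surjective φ := by
  classical
  haveI := Fact.mk Nat.prime_two
  haveI := CfsgLib.Presented.Fi24Simple.simple
  set H := φ.range with hH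
  set Qg := Q.map (Subgroup.centralizer ({z} : Set G)).subtype with hQg
  have hzo : orderOf z = 2 := hF.1.1
  have hzz : z * z = 1 := by rw [← pow_two, ← hzo]; exact pow_orderOf_eq_one z
  have hz1 : z ≠ 1 := fun e => by rw [e, orderOf_one] at hzo; omega
  have htt : t * t = 1 := by rw [← pow_two, ← ht2]; exact pow_orderOf_eq_one t
  have ht1 : t ≠ 1 := fun e => by rw [e, orderOf_one] at ht2; omega
  obtain ⟨htc, htQ'⟩ := htQ
  have htQg : t ∈ Qg := ⟨⟨t, htc⟩, htQ', rfl⟩
  have hcardH : Nat.card H = 1255205709190661721292800 := by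
    rw [hH, ← Nat.card_congr (MonoidHom.ofInjective hφ).toEquiv]
    exact CfsgLib.Presented.Fi24Simple.card_fi24'
  have htH : t ∈ H := hCt (mem_centralizer_singleton_iff.2 rfl)
  have hzH : z ∈ H := hCt (mem_centralizer_singleton_iff.2 (mem_centralizer_singleton_iff.1 htc).symm)
  -- every involution of the copy is conjugate in it to `z` or to `t`
  have hcl : ∀ u ∈ H, u * u = 1 → u ≠ 1 → (∃ h ∈ H, h * u * h⁻¹ = z) ∨ ∃ h ∈ H, h * u * h⁻¹ = t := by
    intro u hu hu2 hu1
    obtain ⟨u', rfl⟩ := hu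
    obtain ⟨z', hz'⟩ := hzH
    obtain ⟨t', ht'⟩ := htH
    have sq : ∀ {y : Cfsg.Spor.Fi24'}, φ y * φ y = 1 → y * y = 1 := fun h => hφ (by rw [map_mul, h, map_one])
    have ne : ∀ {y : Cfsg.Spor.Fi24'}, φ y ≠ 1 → y ≠ 1 := fun h e => h (by rw [e, map_one])
    rcases two_classes_fi24' (sq hu2) (ne hu1) (sq (hz'.symm ▸ hzz)) (ne (hz'.symm ▸ hz1))
      (sq (ht'.symm ▸ htt)) (ne (ht'.symm ▸ ht1)) with h | h | h
    · obtain ⟨c, hc⟩ := isConj_iff.1 h
      exact Or.inl ⟨φ c, ⟨c, rfl⟩, by rw [← map_inv, ← map_mul, ← map_mul, hc, hz']⟩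
    · obtain ⟨c, hc⟩ := isConj_iff.1 h
      exact Or.inr ⟨φ c, ⟨c, rfl⟩, by rw [← map_inv, ← map_mul, ← map_mul, hc, ht']⟩
    · exact absurd (φ.map_isConj h) (by rw [hz', ht']; exact ht)
  -- a Sylow subgroup of the copy centralises a conjugate of `z`
  obtain ⟨P₀, hP₀⟩ := Sylow.exists_subgroup_card_pow_prime (G := H) 2 (n := 21) (by rw [hcardH]; norm_num)
  have hP₀2 : IsPGroup 2 P₀ := IsPGroup.of_card hP₀
  haveI : Nontrivial P₀ := Finite.one_lt_card_iff_nontrivial.1 (by rw [hP₀]; norm_num)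
  haveI := hP₀2.center_nontrivial
  obtain ⟨j, hj⟩ := (hP₀2.to_subgroup (Subgroup.center P₀)).exists_card_eq
  obtain ⟨w, hw⟩ := exists_prime_orderOf_dvd_card' (G := Subgroup.center P₀) 2 (by
    have h1 : 1 < Nat.card (Subgroup.center P₀) := Finite.one_lt_card_iff_nontrivial.2 inferInstance
    rw [hj] at h1 ⊢
    rcases j with _ | j
    · simp at h1
    · exact dvd_pow_self 2 (Nat.succ_ne_zero j))
  set wG : G := (((w : P₀) : H) : G) with hwG
  have hwo : orderOf wG = 2 := by rw [hwG, orderOf_coe, orderOf_coe, orderOf_coe, hw]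
  have hw2 : wG * wG = 1 := by rw [← pow_two, ← hwo]; exact pow_orderOf_eq_one wG
  have hw1 : wG ≠ 1 := fun e => by rw [e, orderOf_one] at hwo; omega
  have hPw : ∀ y ∈ P₀.map H.subtype, y * wG = wG * y := by
    rintro _ ⟨y, hy, rfl⟩
    exact congrArg (fun v : P₀ => ((v : H) : G)) (mem_center_iff.1 w.2 ⟨y, hy⟩)
  have move : ∀ (h : G) {y : G}, (h * wG * h⁻¹ = y) →
      (P₀.map H.subtype).map (MulAut.conj h).toMonoidHom ≤ Subgroup.centralizer ({y} : Set G) := by
    rintro h y rfl _ ⟨v, hv, rfl⟩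
    refine mem_centralizer_singleton_iff.2 ?_
    show h * v * h⁻¹ * (h * wG * h⁻¹) = h * wG * h⁻¹ * (h * v * h⁻¹)
    calc h * v * h⁻¹ * (h * wG * h⁻¹) = h * (v * wG) * h⁻¹ := by group
      _ = h * (wG * v) * h⁻¹ := by rw [hPw v hv]
      _ = _ := by group
  have hcardP : ∀ h : G, Nat.card ((P₀.map H.subtype).map (MulAut.conj h).toMonoidHom) = 2 ^ 21 := fun h => by
    rw [card_map_of_injective (MulAut.conj h).injective, card_map_of_injective H.subtype_injective, hP₀]
  obtain ⟨h, hh, hhw⟩ : ∃ h ∈ H, h * wG * h⁻¹ = z := by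
    rcases hcl wG ((w : P₀) : H).2 hw2 hw1 with e | ⟨h, -, e⟩
    · exact e
    · exact absurd (hcardP h ▸ card_dvd_of_le (move h e))
        (not_dvd_centralizer hF htQg htt ht1 ht)
  set P := (P₀.map H.subtype).map (MulAut.conj h).toMonoidHom with hP
  have hPH : P ≤ H := by
    rintro _ ⟨v, hv, rfl⟩
    exact mul_mem (mul_mem hh (map_subtype_le _ hv)) (inv_mem hh)
  have hPC : P ≤ (Subgroup.centralizer ({z} : Set G)) := move h hhw
  -- hence it contains `Q`
  have Sh := shape_of hF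
  have hcardC : Nat.card (Subgroup.centralizer ({z} : Set G)) = 19595520 * 2 ^ 13 := by
    rw [Subgroup.card_eq_card_quotient_mul_card_subgroup Q, Sh.card_C, Sh.card_Q]
  have hQP : Qg ≤ P := by
    have hn : ∀ a ∈ P, ∀ b ∈ Qg, a * b * a⁻¹ ∈ Qg := by
      rintro a ha _ ⟨b, hb, rfl⟩
      exact ⟨⟨a, hPC ha⟩ * b * ⟨a, hPC ha⟩⁻¹, (inferInstance : Q.Normal).conj_mem b hb _, rfl⟩
    have h1 := card_sup_mul_inf P Qg hn
    rw [hcardP, show Nat.card Qg = 2 ^ 13 by rw [hQg, card_map_of_injective (Subgroup.centralizer ({z} : Set G)).subtype_injective, Sh.card_Q]] at h1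
    have h2 : Nat.card ↥(P ⊔ Qg) ∣ 2 ^ 34 := ⟨_, (h1.trans (by norm_num)).symm⟩
    have h3 : Nat.card ↥(P ⊔ Qg) ∣ Nat.card (Subgroup.centralizer ({z} : Set G)) := card_dvd_of_le (sup_le hPC (map_subtype_le _))
    rw [hcardC] at h3
    have h4 := Nat.dvd_gcd h2 h3
    rw [show Nat.gcd (2 ^ 34) (19595520 * 2 ^ 13) = 2 ^ 21 by decide +kernel] at h4
    rw [eq_of_le_of_card_ge (le_sup_left : P ≤ P ⊔ Qg)
      (by rw [hcardP]; exact Nat.le_of_dvd (by norm_num) h4)]
    exact le_sup_right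
  -- the centraliser of `z`
  have hCz : (Subgroup.centralizer ({z} : Set G)) ≤ H := by
    intro c hc
    obtain ⟨d, hd, hde⟩ := htQg
    have hQ' : c⁻¹ * t * c ∈ Qg :=
      ⟨⟨c, hc⟩⁻¹ * d * ⟨c, hc⟩, by
        have := (inferInstance : Q.Normal).conj_mem d hd (⟨c, hc⟩ : (Subgroup.centralizer ({z} : Set G)))⁻¹
        rwa [inv_inv] at this, by rw [← hde]; rfl⟩
    have h2 : c⁻¹ * t * c * (c⁻¹ * t * c) = 1 := by
      calc c⁻¹ * t * c * (c⁻¹ * t * c) = c⁻¹ * (t * t) * c := by group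
        _ = 1 := by rw [htt]; group
    have h1 : c⁻¹ * t * c ≠ 1 := fun e => ht1 (by
      calc t = c * (c⁻¹ * t * c) * c⁻¹ := by group
        _ = 1 := by rw [e]; group)
    rcases hcl _ (hPH (hQP hQ')) h2 h1 with ⟨g, -, e⟩ | ⟨g, hg, e⟩
    · refine absurd (isConj_iff.2 ⟨g * c⁻¹, ?_⟩ : IsConj t z) fun h => ht h.symm
      rw [← e]; group
    · have hgc : g * c⁻¹ ∈ H := hCt (mem_centralizer_singleton_iff.2 (mul_inv_eq_iff_eq_mul.1 (by
        conv_rhs => rw [← e]
        group)))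
      have := mul_mem (inv_mem hgc) hg
      rwa [show (g * c⁻¹)⁻¹ * g = c by group] at this
  -- every centraliser of an involution of the copy
  have hcen : ∀ u ∈ H, u * u = 1 → u ≠ 1 → ∀ g, g * u = u * g → g ∈ H := by
    intro u hu hu2 hu1 g hg
    have pull : ∀ k ∈ H, ∀ y, k * u * k⁻¹ = y → Subgroup.centralizer ({y} : Set G) ≤ H → g ∈ H := by
      intro k hk y hy hle
      have : k * g * k⁻¹ ∈ H := hle (mem_centralizer_singleton_iff.2 (by
        rw [← hy]
        calc k * g * k⁻¹ * (k * u * k⁻¹) = k * (g * u) * k⁻¹ := by group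
          _ = k * (u * g) * k⁻¹ := by rw [hg]
          _ = _ := by group))
      have := mul_mem (mul_mem (inv_mem hk) this) hk
      rwa [show k⁻¹ * (k * g * k⁻¹) * k = g by group] at this
    rcases hcl u hu hu2 hu1 with ⟨k, hk, e⟩ | ⟨k, hk, e⟩
    · exact pull k hk z e hCz
    · exact pull k hk t e hCt
  -- the class of `t`
  have htcl : ∀ g : G, g * t * g⁻¹ ∈ H := by
    intro g
    obtain ⟨x, hx⟩ : ∃ x, x = g * t * g⁻¹ := ⟨_, rfl⟩
    rw [← hx]
    have hxx : x * x = 1 := by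
      rw [hx, show g * t * g⁻¹ * (g * t * g⁻¹) = g * (t * t) * g⁻¹ by group, htt]; group
    have hnz : ¬ IsConj z x := fun h => ht (h.trans (isConj_iff.2 ⟨g, hx.symm⟩).symm)
    have hxi : x⁻¹ = x := inv_eq_of_mul_eq_one_right hxx
    have hzi : z⁻¹ = z := inv_eq_of_mul_eq_one_right hzz
    have hzflip : z * (z * x) * z⁻¹ = (z * x)⁻¹ := by rw [mul_inv_rev, hxi, hzi, ← mul_assoc, hzz, one_mul]
    have hxflip : x * (z * x) * x⁻¹ = (z * x)⁻¹ := by
      rw [mul_inv_rev, hxi, hzi, mul_assoc, mul_assoc z, hxx, mul_one]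
    rcases Nat.even_or_odd (orderOf (z * x)) with ⟨k, hk⟩ | ⟨k, hk⟩
    · set u := (z * x) ^ k with hu
      have hu2 : u * u = 1 := by rw [hu, ← pow_add, ← hk, pow_orderOf_eq_one]
      have hui : u⁻¹ = u := inv_eq_of_mul_eq_one_right hu2
      have hpos : 0 < orderOf (z * x) := orderOf_pos _
      have hu1 : u ≠ 1 := by
        intro e
        have := Nat.le_of_dvd (by omega) (orderOf_dvd_of_pow_eq_one e)
        omega
      have hzu : z * u * z⁻¹ = u := by rw [hu, ← conj_pow, hzflip, inv_pow, ← hu, hui]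
      have hxu : x * u * x⁻¹ = u := by rw [hu, ← conj_pow, hxflip, inv_pow, ← hu, hui]
      exact hcen u (hCz (mem_centralizer_singleton_iff.2 (mul_inv_eq_iff_eq_mul.1 hzu).symm)) hu2 hu1 x
        (mul_inv_eq_iff_eq_mul.1 hxu)
    · refine absurd (isConj_iff.2 ⟨(z * x) ^ k, ?_⟩) hnz
      have h1 : z * ((z * x) ^ k)⁻¹ = (z * x) ^ k * z := by
        have : z * (z * x) ^ k * z⁻¹ = ((z * x) ^ k)⁻¹ := by rw [← conj_pow, hzflip, inv_pow]
        rw [← this, ← mul_assoc, ← mul_assoc, hzz, one_mul, hzi]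
      calc (z * x) ^ k * z * ((z * x) ^ k)⁻¹ = (z * x) ^ k * ((z * x) ^ k * z) := by rw [mul_assoc, h1]
        _ = (z * x) ^ k * (z * x) ^ k * z := by group
        _ = (z * x)⁻¹ * z := by
          rw [← pow_add, eq_inv_of_mul_eq_one_left (show (z * x) ^ (k + k) * (z * x) = 1 by
            rw [← pow_succ, show k + k + 1 = orderOf (z * x) by omega, pow_orderOf_eq_one])]
        _ = x := by rw [mul_inv_rev, hxi, hzi, mul_assoc, hzz, mul_one]
  -- the copy is normal
  set N := Subgroup.normalClosure ({t} : Set G) with hN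
  have hNH : N ≤ H := by
    rw [hN, Subgroup.normalClosure, closure_le]
    intro y hy
    obtain ⟨v, hv, hvy⟩ := Group.mem_conjugatesOfSet_iff.1 hy
    rw [Set.mem_singleton_iff] at hv
    subst hv
    obtain ⟨g, rfl⟩ := isConj_iff.1 hvy
    exact htcl g
  haveI : IsSimpleGroup H := (MulEquiv.isSimpleGroup_congr (MonoidHom.ofInjective hφ)).1 inferInstance
  have hNeq : N = H := by
    rcases (inferInstance : (N.subgroupOf H).Normal).eq_bot_or_eq_top with e | e
    · have hm : (⟨t, htH⟩ : H) ∈ N.subgroupOf H :=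
        mem_subgroupOf.2 (subset_normalClosure (Set.mem_singleton t))
      rw [e, mem_bot] at hm
      exact absurd (congrArg Subtype.val hm) ht1
    · exact le_antisymm hNH (subgroupOf_eq_top.1 e)
  haveI : H.Normal := hNeq ▸ normalClosure_normal
  rw [← MonoidHom.range_eq_top, eq_top_iff]
  intro g _
  have hgz : g * z * g⁻¹ ∈ H := (inferInstance : H.Normal).conj_mem z hzH g
  have h2 : g * z * g⁻¹ * (g * z * g⁻¹) = 1 := by
    rw [show g * z * g⁻¹ * (g * z * g⁻¹) = g * (z * z) * g⁻¹ by group, hzz]; group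
  rcases hcl _ hgz h2 (fun e => hz1 (conj_eq_one_iff.1 e)) with ⟨k, hk, e⟩ | ⟨k, -, e⟩
  · have hkg : k * g ∈ H := hCz (mem_centralizer_singleton_iff.2 (mul_inv_eq_iff_eq_mul.1 (by
      conv_rhs => rw [← e]
      group)))
    have := mul_mem (inv_mem hk) hkg
    rwa [inv_mul_cancel_left] at this
  · exact absurd (isConj_iff.2 ⟨k * g, by rw [← e]; group⟩) ht

end CfsgLib.FischerTwoFour.Recog
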